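import Cfsg.Agent.Coprime.Basic

/-!
The product of two solvable subgroups, one normalizing the other.
-/

namespace Cfsg.Agent.H40

open Subgroup

variable {G : Type*} [Group G]

theorem isSolvable_sup {X Y : Subgroup G} (hn : Y ≤ normalizer (X : Set G))
    (hX : Group.IsSolvable X) (hY : Group.IsSolvable Y) : Group.IsSolvable ↥(X ⊔ Y) := by
  have hnX : X ⊔ Y ≤ normalizer (X : Set G) := sup_le le_normalizer hn
  haveI : (X.subgroupOf (X ⊔ Y)).Normal :=
    (normal_subgroupOf_iff_le_normalizer le_sup_left).mpr hnX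
  haveI := hX
  haveI := hY
  let g := QuotientGroup.mk' (X.subgroupOf (X ⊔ Y))
  haveI : Group.IsSolvable (↥(X ⊔ Y) ⧸ X.subgroupOf (X ⊔ Y)) := by
    refine Group.isSolvable_of_surjective (f := g.comp (inclusion (le_sup_right : Y ≤ X ⊔ Y))) ?_
    intro w
    obtain ⟨⟨v, hv⟩, rfl⟩ := QuotientGroup.mk'_surjective _ w
    obtain ⟨x, hx, y, hy, rfl⟩ := (Coprime.mem_sup_iff hn).mp hv
    refine ⟨⟨y, hy⟩, ?_⟩
    have h1 : g ⟨x, mem_sup_left hx⟩ = 1 := (QuotientGroup.eq_one_iff _).mpr hx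
    have h2 := map_mul g ⟨x, mem_sup_left hx⟩ ⟨y, mem_sup_right hy⟩
    rw [h1, one_mul] at h2
    exact h2.symm
  refine Group.isSolvable_of_ker_le_range (inclusion (le_sup_left : X ≤ X ⊔ Y)) g ?_
  intro v hv
  rw [QuotientGroup.ker_mk'] at hv
  exact ⟨⟨v, hv⟩, rfl⟩

end Cfsg.Agent.H40
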