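import Cfsg.Agent.H40.BalanceCrit

/-!
Balance when a centralizer is `p`-constrained.
-/

namespace Cfsg.Agent.H40

open Subgroup

variable {G : Type*} [Group G] [Finite G] {p : ℕ} [hp : Fact p.Prime]

/-- If `C(b)` is `p`-constrained, then `O_{p'}(C(a)) ∩ C(b) ≤ O_{p'}(C(b))` for commuting
`p`-elements `a`, `b`. -/
theorem balance_of_constrained {a b : G} (ha : IsPElem p a) (hab : a * b = b * a)
    (hc : Cfsg.IsPConstrained p ↥(centralizer ({b} : Set G))) :
    Cfsg.centralizerPPrimeCore p a ⊓ centralizer ({b} : Set G) ≤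
      Cfsg.centralizerPPrimeCore p b := by
  set C := centralizer ({b} : Set G)
  let a₁ : ↥C := ⟨a, mem_centralizer_singleton_iff.mpr hab⟩
  let π := QuotientGroup.mk' (Cfsg.pPrimeCore p ↥C)
  have ha₁ : IsPElem p a₁ := by
    obtain ⟨k, hk⟩ := ha
    exact ⟨k, Subtype.ext (by simpa using hk)⟩
  have hX := isCentralSignalizer_core ha
  set X : Subgroup ↥C := (Cfsg.centralizerPPrimeCore p a).subgroupOf C
  have hXC : X ≤ centralizer ({a₁} : Set ↥C) := fun v hv =>
    mem_centralizer_singleton_iff.mpr (Subtype.ext (mem_centralizer_singleton_iff.mp (hX.le_centralizer hv)))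
  have hXn : centralizer ({a₁} : Set ↥C) ≤ normalizer (X : Set ↥C) := fun v hv => by
    have h1 : (v : G) ∈ centralizer ({a} : Set G) :=
      mem_centralizer_singleton_iff.mpr (congrArg Subtype.val (mem_centralizer_singleton_iff.mp hv))
    rw [mem_normalizer_iff]
    intro w
    exact mem_normalizer_iff.mp (hX.normalized h1) w
  have hXc : (Nat.card X).Coprime p :=
    hX.coprime.coprime_dvd_left (by
      rw [← card_map_of_injective C.subtype_injective]
      exact card_dvd_of_le (by rintro _ ⟨v, hv, rfl⟩; exact hv))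
  have hlift : centralizer ({π a₁} : Set _) ≤ (centralizer ({a₁} : Set ↥C)).map π := by
    rw [← centralizer_zpowers_eq a₁, Cores.map_centralizer_of_coprime _ Cores.coprime_card_pPrimeCore
      (isPGroup_zpowers ha₁), MonoidHom.map_zpowers, centralizer_zpowers_eq]
  have h2 := ((map_le_centralizerPPrimeCore_of_lift π hlift hXC hXn hXc).trans
    (sig_le_centralizer_pCore (isCentralSignalizer_core (ha₁.map π)))).trans
    (Cores.isPConstrained_iff.mp hc)
  have hbot : X.map π = ⊥ := by
    have := Cores.disjoint_of_isPGroup_of_coprime (Cores.pCore_isPGroup (p := p) (G := ↥C ⧸ _))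
      (hXc.coprime_dvd_left (card_map_dvd X π))
    rwa [inf_eq_right.mpr h2] at this
  rw [Subgroup.map_eq_bot_iff, QuotientGroup.ker_mk'] at hbot
  rintro v ⟨hv, hvC⟩
  exact ⟨⟨v, hvC⟩, hbot hv, rfl⟩

end Cfsg.Agent.H40
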