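import Cfsg.Prelude.Def_Balance
import Cfsg.Agent.Coprime.Generation
import Cfsg.Agent.Coprime.Action

/-!
Generation by centralizers of hyperplanes of an elementary abelian group, and small facts about
elementary abelian subgroups.
-/

namespace Cfsg.Agent.H40

open Subgroup

variable {G : Type*} [Group G] {p : ℕ}

theorem elemAb_isPGroup {A : Subgroup G} (hA : Cfsg.IsElementaryAbelian p A) :
    IsPGroup p A :=
  fun a => ⟨1, Subtype.ext (by simpa using hA.2 a a.2)⟩

theorem elemAb_mono {A B : Subgroup G} (hA : Cfsg.IsElementaryAbelian p A) (h : B ≤ A) :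
    Cfsg.IsElementaryAbelian p B := by
  haveI := hA.1
  refine ⟨⟨⟨fun x y => Subtype.ext ?_⟩⟩, fun b hb => hA.2 b (h hb)⟩
  show (x : G) * y = y * x
  exact congrArg Subtype.val (IsMulCommutative.is_comm.comm (⟨(x : G), h x.2⟩ : A) ⟨(y : G), h y.2⟩)

theorem elemAb_commute {A : Subgroup G} (hA : Cfsg.IsElementaryAbelian p A) {a b : G}
    (ha : a ∈ A) (hb : b ∈ A) : a * b = b * a :=
  congrArg Subtype.val (hA.1.is_comm.comm (⟨a, ha⟩ : A) ⟨b, hb⟩)

variable [Finite G] [hp : Fact p.Prime]

theorem elemAb_not_cyclic {A : Subgroup G} (hA : Cfsg.IsElementaryAbelian p A)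
    (h2 : p ^ 2 ≤ Nat.card A) : ¬ IsCyclic A := by
  intro hc
  obtain ⟨g, hg⟩ := hc.exists_generator
  have h1 : Nat.card A ≤ p := by
    rw [← orderOf_eq_card_of_forall_mem_zpowers hg]
    exact Nat.le_of_dvd hp.out.pos
      (orderOf_dvd_of_pow_eq_one (Subtype.ext (by simpa using hA.2 g g.2)))
  have := hp.out.two_le
  nlinarith [h1, h2]

theorem coprime_card_of_isPGroup {A K : Subgroup G} (hA : IsPGroup p A)
    (hK : ¬ p ∣ Nat.card K) : (Nat.card A).Coprime (Nat.card K) := by
  obtain ⟨n, hn⟩ := IsPGroup.iff_card.mp hA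
  rw [hn]
  exact Nat.Coprime.pow_left _ (hp.out.coprime_iff_not_dvd.mpr hK)

theorem relIndex_le_of_sup_zpowers {A B : Subgroup G} (hA : Cfsg.IsElementaryAbelian p A)
    (hB : B ≤ A) {a : G} (ha : a ∈ A) (h : B ⊔ zpowers a = A) : B.relIndex A ≤ p := by
  haveI := hA.1
  have hn : zpowers a ≤ normalizer (B : Set G) := by
    refine (zpowers_le.mpr ?_)
    rw [mem_normalizer_iff]
    intro x
    constructor
    · intro hx
      rw [elemAb_commute hA ha (hB hx), mul_inv_cancel_right]
      exact hx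
    · intro hx
      have hxA : x ∈ A := by
        have := A.mul_mem (A.mul_mem (A.inv_mem ha) (hB hx)) ha
        simpa [mul_assoc] using this
      rwa [elemAb_commute hA ha hxA, mul_inv_cancel_right] at hx
  have hsurj : Function.Surjective (fun x : B × zpowers a =>
      (⟨x.1 * x.2, A.mul_mem (hB x.1.2) ((zpowers_le.mpr ha) x.2.2)⟩ : A)) := by
    intro x
    have hx : (x : G) ∈ B ⊔ zpowers a := h.symm ▸ x.2
    obtain ⟨b, hb, c, hc, hbc⟩ := (Coprime.mem_sup_iff hn).mp hx
    exact ⟨(⟨b, hb⟩, ⟨c, hc⟩), Subtype.ext hbc⟩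
  have hle : Nat.card A ≤ Nat.card B * p := by
    refine (Nat.card_le_card_of_surjective _ hsurj).trans ?_
    rw [Nat.card_prod, Nat.card_zpowers]
    exact Nat.mul_le_mul_left _ (Nat.le_of_dvd hp.out.pos (orderOf_dvd_of_pow_eq_one (hA.2 a ha)))
  have h1 := Subgroup.relIndex_mul_relIndex (⊥ : Subgroup G) B A bot_le hB
  rw [relIndex_bot_left, relIndex_bot_left] at h1
  exact Nat.le_of_mul_le_mul_left (h1.le.trans hle) Nat.card_pos

/-- `X` is generated by its centralizers of the subgroups of index `p` or `1` in `A`. -/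
theorem le_of_hyperplanes {A X M : Subgroup G} (hA : Cfsg.IsElementaryAbelian p A)
    (hX : ¬ p ∣ Nat.card X) (hAX : A ≤ normalizer (X : Set G))
    (h : ∀ B ≤ A, B.relIndex A ≤ p → X ⊓ centralizer (B : Set G) ≤ M) : X ≤ M := by
  haveI := hA.1
  refine Coprime.le_of_centralizer_cyclic_quotient_le hAX
    (coprime_card_of_isPGroup (elemAb_isPGroup hA) hX) ?_
  rintro B hB ⟨a, ha, hBa⟩
  exact h B hB (relIndex_le_of_sup_zpowers hA hB ha hBa)

/-- Every elementary abelian group of order at least `p` has a subgroup of index `p`. -/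
theorem exists_hyperplane {A : Subgroup G} (hA : Cfsg.IsElementaryAbelian p A)
    (h : A ≠ ⊥) : ∃ D ≤ A, D.relIndex A = p := by
  obtain ⟨n, hn⟩ := IsPGroup.iff_card.mp (elemAb_isPGroup hA)
  have hn0 : n ≠ 0 := by
    rintro rfl
    exact h (A.eq_bot_of_card_eq (by simpa using hn))
  obtain ⟨m, rfl⟩ := Nat.exists_eq_succ_of_ne_zero hn0
  obtain ⟨K, hK⟩ := Sylow.exists_subgroup_card_pow_prime (G := A) p
    (n := m) (by rw [hn]; exact pow_dvd_pow _ m.le_succ)
  refine ⟨K.map A.subtype, map_subtype_le _, ?_⟩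
  have h1 := Subgroup.relIndex_mul_relIndex (⊥ : Subgroup G) (K.map A.subtype) A bot_le
    (map_subtype_le _)
  rw [relIndex_bot_left, relIndex_bot_left, card_map_of_injective A.subtype_injective, hK, hn,
    pow_succ] at h1
  exact Nat.eq_of_mul_eq_mul_left (pow_pos hp.out.pos m) h1

theorem mem_centralizer_singleton_of {B : Subgroup G} {b : G} (hb : b ∈ B) :
    centralizer (B : Set G) ≤ centralizer {b} :=
  centralizer_le (Set.singleton_subset_iff.mpr hb)

end Cfsg.Agent.H40
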