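import Cfsg.Agent.H40.Generation
import Cfsg.Agent.Coprime.Centralize

/-!
Factorizations `K = X Y` from factorizations of centralizers.
-/

namespace Cfsg.Agent.H40

open Subgroup
open scoped Pointwise commutatorElement

variable {G : Type*} [Group G]

theorem mem_prodSet {X Y : Subgroup G} {z : G} :
    z ∈ (X : Set G) * (Y : Set G) ↔ ∃ x ∈ X, ∃ y ∈ Y, x * y = z := by
  rw [Set.mem_mul]; rfl

theorem card_prodSet_mul_card_inf (X Y : Subgroup G) :
    Nat.card ((X : Set G) * (Y : Set G) : Set G) * Nat.card ↥(X ⊓ Y) =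
      Nat.card X * Nat.card Y := by
  rw [← Nat.card_prod, ← Nat.card_prod]
  choose x hx y hy hxy using fun s : ((X : Set G) * (Y : Set G) : Set G) => mem_prodSet.mp s.2
  refine Nat.card_eq_of_bijective (fun st : ((X : Set G) * (Y : Set G) : Set G) × ↥(X ⊓ Y) =>
    ((⟨x st.1 * st.2, X.mul_mem (hx st.1) st.2.2.1⟩ : X),
      (⟨(st.2 : G)⁻¹ * y st.1, Y.mul_mem (Y.inv_mem st.2.2.2) (hy st.1)⟩ : Y))) ⟨?_, ?_⟩
  · rintro ⟨s, t⟩ ⟨s', t'⟩ h
    obtain ⟨h1, h2⟩ := Prod.ext_iff.mp h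
    have h1' : x s * (t : G) = x s' * t' := congrArg Subtype.val h1
    have h2' : (t : G)⁻¹ * y s = (t' : G)⁻¹ * y s' := congrArg Subtype.val h2
    have hs : s = s' := by
      refine Subtype.ext ?_
      rw [← hxy s, ← hxy s']
      calc x s * y s = (x s * t) * ((t : G)⁻¹ * y s) := by group
        _ = _ := by rw [h1', h2']; group
    subst hs
    exact Prod.ext rfl (Subtype.ext (mul_left_cancel h1'))
  · rintro ⟨a, b⟩
    have hs : (a : G) * b ∈ (X : Set G) * (Y : Set G) := mem_prodSet.mpr ⟨a, a.2, b, b.2, rfl⟩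
    have e := hxy ⟨_, hs⟩
    have hy' : (x ⟨_, hs⟩)⁻¹ * a = y ⟨_, hs⟩ * (b : G)⁻¹ := by
      rw [eq_mul_inv_iff_mul_eq, mul_assoc, inv_mul_eq_iff_eq_mul]
      exact e.symm
    refine ⟨(⟨_, hs⟩, ⟨(x ⟨_, hs⟩)⁻¹ * a, X.mul_mem (X.inv_mem (hx _)) a.2,
      hy' ▸ Y.mul_mem (hy _) (Y.inv_mem b.2)⟩), Prod.ext (Subtype.ext ?_) (Subtype.ext ?_)⟩
    · simp
    · show ((x ⟨_, hs⟩)⁻¹ * (a : G))⁻¹ * y ⟨_, hs⟩ = b
      rw [hy']; group

variable [Finite G] {p : ℕ} [hp : Fact p.Prime] {q : ℕ} [hq : Fact q.Prime]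

/-- `Q ⊆ X Y` for a `q`-group `Q` once this holds on the centralizers of the elements of `A`. -/
theorem qgroup_subset_prod {A Q X Y : Subgroup G} (hA : Cfsg.IsElementaryAbelian p A)
    (hA2 : p ^ 2 ≤ Nat.card A) (hQ : IsPGroup q Q) (hpq : ¬ p ∣ Nat.card Q)
    (hAQ : A ≤ normalizer (Q : Set G)) (hX : X ≤ Q) (hY : Y ≤ Q)
    (h : ∀ a ∈ A, a ≠ 1 →
      ((Q ⊓ centralizer {a} : Subgroup G) : Set G) ⊆ (X : Set G) * (Y : Set G)) :
    (Q : Set G) ⊆ (X : Set G) * (Y : Set G) := by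
  suffices hR : ∀ R : Subgroup G, R ≤ Q → A ≤ normalizer (R : Set G) →
      Q ≤ normalizer (R : Set G) → (Q : Set G) ⊆ ((X : Set G) * (Y : Set G)) * (R : Set G) →
      (Q : Set G) ⊆ (X : Set G) * (Y : Set G) from
    hR Q le_rfl hAQ le_normalizer fun v hv =>
      Set.mem_mul.mpr ⟨1, mem_prodSet.mpr ⟨1, X.one_mem, 1, Y.one_mem, mul_one 1⟩, v, hv, one_mul v⟩
  intro R
  induction hn : Nat.card R using Nat.strong_induction_on generalizing R with
  | _ n ih =>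
    intro hRQ hAR hQR hsub
    by_cases hbot : R = ⊥
    · subst hbot
      intro v hv
      obtain ⟨w, hw, r, hr, rfl⟩ := Set.mem_mul.mp (hsub hv)
      rw [SetLike.mem_coe, mem_bot] at hr
      rwa [hr, mul_one]
    have hlt := Coprime.commutator_lt_of_isPGroup (hQ.to_le hRQ) hQ hQR hbot
    have hAR' : A ≤ normalizer ((⁅R, Q⁆ : Subgroup G) : Set G) := by
      intro a ha
      rw [mem_normalizer_iff_map_conj_eq, map_commutator,
        mem_normalizer_iff_map_conj_eq.mp (hAR ha), mem_normalizer_iff_map_conj_eq.mp (hAQ ha)]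
    have hQR' : Q ≤ normalizer ((⁅R, Q⁆ : Subgroup G) : Set G) := normalizer_commutator_ge_right R Q
    refine ih _ ?_ ⁅R, Q⁆ rfl (hlt.le.trans hRQ) hAR' hQR' ?_
    · subst hn
      exact lt_of_le_of_ne (card_le_of_le hlt.le) fun e => hlt.ne (eq_of_le_of_card_ge hlt.le e.ge)
    set R' := ⁅R, Q⁆
    haveI : (R'.subgroupOf Q).Normal :=
      (normal_subgroupOf_iff_le_normalizer (hlt.le.trans hRQ)).mpr hQR'
    let π := QuotientGroup.mk' (R'.subgroupOf Q)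
    have central : ∀ (v : ↥Q), (v : G) ∈ R → ∀ w : ↥Q, π v * π w = π w * π v := by
      intro v hv w
      rw [← commutatorElement_eq_one_iff_mul_comm, ← map_commutatorElement]
      exact (QuotientGroup.eq_one_iff _).mpr (commutator_mem_commutator hv w.2)
    let T : Subgroup G :=
      { carrier := {v | v ∈ R ∧ ∃ (hv : v ∈ Q) (x : ↥Q) (y : ↥Q),
          (x : G) ∈ X ∧ (y : G) ∈ Y ∧ π ⟨v, hv⟩ = π x * π y}
        one_mem' := ⟨R.one_mem, Q.one_mem, 1, 1, X.one_mem, Y.one_mem,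
          by rw [map_one, one_mul]; exact map_one π⟩
        mul_mem' := by
          rintro v w ⟨hv, hvQ, x, y, hx, hy, e⟩ ⟨hw, hwQ, x', y', hx', hy', e'⟩
          refine ⟨R.mul_mem hv hw, Q.mul_mem hvQ hwQ, x * x', y' * y, X.mul_mem hx hx',
            Y.mul_mem hy' hy, ?_⟩
          have c := central ⟨w, hwQ⟩ hw y
          calc π ⟨v * w, _⟩ = π ⟨v, hvQ⟩ * π ⟨w, hwQ⟩ := (map_mul π ⟨v, hvQ⟩ ⟨w, hwQ⟩)
            _ = π x * (π ⟨w, hwQ⟩ * π y) := by rw [e, mul_assoc, c]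
            _ = _ := by rw [e', map_mul, map_mul]; group
        inv_mem' := by
          rintro v ⟨hv, hvQ, x, y, hx, hy, e⟩
          refine ⟨R.inv_mem hv, Q.inv_mem hvQ, x⁻¹, y⁻¹, X.inv_mem hx, Y.inv_mem hy, ?_⟩
          have c := central ⟨v, hvQ⟩ hv y
          have e2 : π y * π x = π ⟨v, hvQ⟩ := by
            calc π y * π x = π y * (π x * π y) * (π y)⁻¹ := by group
              _ = π ⟨v, hvQ⟩ := by rw [← e, ← c, mul_inv_cancel_right]
          rw [map_inv, map_inv, ← mul_inv_rev, e2, ← map_inv]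
          rfl }
    have hT : R ≤ T := by
      haveI := hA.1
      refine Coprime.le_of_centralizer_noncyclic_le (elemAb_not_cyclic hA hA2) hAR
        (coprime_card_of_isPGroup (elemAb_isPGroup hA)
          fun hd => hpq (hd.trans (card_dvd_of_le hRQ))) fun a ha ha1 v hv => ?_
      obtain ⟨x, hx, y, hy, hxy⟩ := mem_prodSet.mp (h a ha ha1 ⟨hRQ hv.1, hv.2⟩)
      refine ⟨hv.1, hRQ hv.1, ⟨x, hX hx⟩, ⟨y, hY hy⟩, hx, hy, ?_⟩
      rw [← map_mul]
      congr 1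
      exact Subtype.ext hxy.symm
    intro u hu
    obtain ⟨w, hw, v, hv, rfl⟩ := Set.mem_mul.mp (hsub hu)
    obtain ⟨x, hx, y, hy, rfl⟩ := mem_prodSet.mp hw
    obtain ⟨-, hvQ, x', y', hx', hy', e⟩ := hT hv
    have c := central ⟨v, hvQ⟩ hv ⟨y, hY hy⟩
    have e3 : π ⟨x * y * v, hu⟩ = π (⟨x, hX hx⟩ * x' * (y' * ⟨y, hY hy⟩)) := by
      calc π ⟨x * y * v, hu⟩ = π ⟨x, hX hx⟩ * π ⟨y, hY hy⟩ * π ⟨v, hvQ⟩ := by
            rw [← map_mul, ← map_mul]; rfl
        _ = π ⟨x, hX hx⟩ * (π ⟨v, hvQ⟩ * π ⟨y, hY hy⟩) := by rw [mul_assoc, c]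
        _ = _ := by rw [e]; simp only [map_mul]; group
    refine Set.mem_mul.mpr ⟨(x * (x' : G)) * ((y' : G) * y),
      mem_prodSet.mpr ⟨_, X.mul_mem hx hx', _, Y.mul_mem hy' hy, rfl⟩,
      ((x * (x' : G)) * ((y' : G) * y))⁻¹ * (x * y * v), ?_, by group⟩
    have h5 := (QuotientGroup.eq (s := R'.subgroupOf Q)).mp e3.symm
    exact h5

omit [Finite G] in
theorem elemAb_isSolvable {A : Subgroup G} (hA : Cfsg.IsElementaryAbelian p A) :
    Group.IsSolvable A :=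
  Group.isSolvable_of_comm fun a b => Subtype.ext (elemAb_commute hA a.2 b.2)

theorem card_dvd_of_isPGroup {Q H : Subgroup G} (hQ : IsPGroup q Q) (h : Q ≤ H) :
    Nat.card Q ∣ q ^ (Nat.card H).factorization q := by
  obtain ⟨n, hn⟩ := IsPGroup.iff_card.mp hQ
  rw [hn]
  refine Nat.pow_dvd_pow q ((hq.out.pow_dvd_iff_le_factorization Nat.card_pos.ne').mp ?_)
  rw [← hn]
  exact card_dvd_of_le h

/-- `Q` is a Sylow `q`-subgroup of `H`, in `G`. -/
def IsSylowOf (q : ℕ) (Q H : Subgroup G) : Prop :=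
  Q ≤ H ∧ IsPGroup q Q ∧ Nat.card Q = q ^ (Nat.card H).factorization q

theorem isSylowOf_map {H : Subgroup G} (P : Sylow q H) :
    IsSylowOf q ((P : Subgroup H).map H.subtype) H :=
  ⟨map_subtype_le _, P.isPGroup'.map _, by
    rw [card_map_of_injective H.subtype_injective, Sylow.card_eq_multiplicity]⟩

theorem IsSylowOf.eq_of_le {Q R H : Subgroup G} (h : IsSylowOf q Q H) (hR : IsPGroup q R)
    (hQR : Q ≤ R) (hRH : R ≤ H) : Q = R :=
  eq_of_le_of_card_ge hQR (h.2.2 ▸ Nat.le_of_dvd (pow_pos hq.out.pos _) (card_dvd_of_isPGroup hR hRH))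

theorem IsSylowOf.map_conj {Q H : Subgroup G} (h : IsSylowOf q Q H) {c : G}
    (hc : c ∈ normalizer (H : Set G)) :
    IsSylowOf q (Q.map (MulAut.conj c).toMonoidHom) H := by
  refine ⟨?_, h.2.1.map _, ?_⟩
  · rintro _ ⟨v, hv, rfl⟩
    exact (mem_normalizer_iff.mp hc v).mp (h.1 hv)
  · rw [Coprime.card_map_conj, h.2.2]

variable {A K Q : Subgroup G}

theorem exists_sylowOf_ge (hA : Cfsg.IsElementaryAbelian p A) {M : Subgroup G}
    (hM : ¬ p ∣ Nat.card M) (hAM : A ≤ normalizer (M : Set G)) {U : Subgroup G} (hUM : U ≤ M)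
    (hU : IsPGroup q U) (hUA : A ≤ normalizer (U : Set G)) :
    ∃ S : Subgroup G, IsSylowOf q S M ∧ U ≤ S ∧ A ≤ normalizer (S : Set G) := by
  obtain ⟨P, h1, h2⟩ := Coprime.exists_invariant_sylow_ge hAM
    (coprime_card_of_isPGroup (elemAb_isPGroup hA) hM)
    (Or.inl (elemAb_isSolvable hA)) q hUM hU hUA
  exact ⟨_, isSylowOf_map P, h1, h2⟩

/-- An `A`-invariant Sylow subgroup of `K` meets each `A`-invariant subgroup normalized by `C_K(A)`
in a Sylow subgroup. -/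
theorem inf_isSylowOf (hA : Cfsg.IsElementaryAbelian p A) (hK : ¬ p ∣ Nat.card K)
    (hAK : A ≤ normalizer (K : Set G)) (hQ : IsSylowOf q Q K) (hAQ : A ≤ normalizer (Q : Set G))
    {M : Subgroup G} (hMK : M ≤ K) (hAM : A ≤ normalizer (M : Set G))
    (hCM : K ⊓ centralizer (A : Set G) ≤ normalizer (M : Set G)) :
    IsSylowOf q (Q ⊓ M) M := by
  have hM : ¬ p ∣ Nat.card M := fun h => hK (h.trans (card_dvd_of_le hMK))
  obtain ⟨S₀, hS₀, -, hAS₀⟩ := exists_sylowOf_ge (q := q) hA hM hAM bot_le IsPGroup.of_bot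
    (by rw [normalizer_eq_top]; exact le_top)
  obtain ⟨P, hSP, hAP⟩ := Coprime.exists_invariant_sylow_ge hAK
    (coprime_card_of_isPGroup (elemAb_isPGroup hA) hK)
    (Or.inl (elemAb_isSolvable hA)) q
    (hS₀.1.trans hMK) hS₀.2.1 hAS₀
  let Q' : Sylow q K := (hQ.2.1.comap_subtype (K := K)).toSylow (by
    have h1 : (Q.subgroupOf K).index * Nat.card (Q.subgroupOf K) = Nat.card K := index_mul_card _
    rw [Nat.card_congr (subgroupOfEquivOfLe hQ.1).toEquiv, hQ.2.2] at h1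
    change ¬ q ∣ (Q.subgroupOf K).index
    rintro ⟨e, he⟩
    rw [he] at h1
    exact Nat.pow_succ_factorization_not_dvd Nat.card_pos.ne' hq.out
      ⟨e, by rw [pow_succ]; linarith⟩)
  have hQ' : (Q' : Subgroup K).map K.subtype = Q := Subgroup.map_subgroupOf_eq_of_le hQ.1
  obtain ⟨c, hc, hcQ⟩ := Coprime.exists_conj_invariant_sylow hAK
    (coprime_card_of_isPGroup (elemAb_isPGroup hA) hK)
    (Or.inl (elemAb_isSolvable hA)) q P Q'
    hAP (hQ'.symm ▸ hAQ)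
  have hcM := hCM ⟨c.2, hc⟩
  have hle : S₀.map (MulAut.conj (c : G)).toMonoidHom ≤ Q ⊓ M := by
    refine le_inf ?_ (hS₀.map_conj hcM).1
    rintro _ ⟨v, hv, rfl⟩
    rw [← hQ', ← hcQ, Sylow.pointwise_smul_def]
    obtain ⟨w, hw, hwv⟩ := hSP hv
    refine ⟨MulAut.conj c w, smul_mem_pointwise_smul _ _ _ hw, ?_⟩
    simp [← hwv]
  rw [← (hS₀.map_conj hcM).eq_of_le (hQ.2.1.to_le inf_le_left) hle inf_le_right]
  exact hS₀.map_conj hcM

end Cfsg.Agent.H40
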