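import Cfsg.Agent.H40.PElem

/-!
`p`-components and the `p`-layer: a `p`-component is `O^{p'}` of the preimage of its image.
-/

namespace Cfsg.Agent.H40

open Subgroup

variable {X : Type*} [Group X] [Finite X] {p : ℕ} [hp : Fact p.Prime]

/-- In a group with trivial `p'`-core every component has order divisible by `p`. -/
theorem component_dvd_card (hO : Cfsg.pPrimeCore p X = ⊥) {L : Subgroup X}
    (hL : Cfsg.IsComponent L) : p ∣ Nat.card L := by
  by_contra h
  have := Cores.le_pPrimeCore_of_isSubnormal hL.1 ((hp.out.coprime_iff_not_dvd.mpr h).symm)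
  rw [hO, le_bot_iff] at this
  exact Components.qsSub_ne_bot hL.2 this

variable (p) in
/-- The quotient map by the `p'`-core. -/
abbrev coreMap (X : Type*) [Group X] : X →* X ⧸ Cfsg.pPrimeCore p X :=
  QuotientGroup.mk' (Cfsg.pPrimeCore p X)

theorem component_dvd_card_quotient {L : Subgroup (X ⧸ Cfsg.pPrimeCore p X)}
    (hL : Cfsg.IsComponent L) : p ∣ Nat.card L :=
  component_dvd_card Cores.pPrimeCore_quotient_pPrimeCore hL

/-- The `p`-component over a component of `X / O_{p'}(X)`. -/
theorem isPComponent_pElemClosure {Kb : Subgroup (X ⧸ Cfsg.pPrimeCore p X)}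
    (hK : Cfsg.IsComponent Kb) :
    Cfsg.IsPComponent p (pElemClosure p (Kb.comap (coreMap p X))) ∧
      (pElemClosure p (Kb.comap (coreMap p X))).map (coreMap p X) = Kb := by
  set M := Kb.comap (coreMap p X) with hM
  have hmap : M.map (coreMap p X) = Kb :=
    map_comap_eq_self_of_surjective (QuotientGroup.mk'_surjective _) _
  have hR : (pElemClosure p M).map (coreMap p X) = Kb := by
    rw [map_pElemClosure, hmap, pElemClosure_eq_self_of_qs hK.2 (component_dvd_card_quotient hK)]
  refine ⟨⟨isSubnormal_pElemClosure (hK.1.comap _), by rw [hR]; exact hK, ?_⟩, hR⟩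
  intro K hsn hle he
  rw [hR] at he
  refine le_antisymm hle (pElemClosure_le_of_isSubnormal hsn (Cfsg.pPrimeCore p X)
    Cores.coprime_card_pPrimeCore ?_)
  have h2 := congrArg (Subgroup.comap (coreMap p X)) he
  rw [comap_map_eq, QuotientGroup.ker_mk'] at h2
  exact h2.ge

/-- A `p`-component is the `O^{p'}` of the preimage of its image. -/
theorem isPComponent_eq {K : Subgroup X} (hK : Cfsg.IsPComponent p K) :
    K = pElemClosure p ((K.map (coreMap p X)).comap (coreMap p X)) := by
  obtain ⟨hR, hmap⟩ := isPComponent_pElemClosure (p := p) hK.2.1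
  have hle : pElemClosure p ((K.map (coreMap p X)).comap (coreMap p X)) ≤ K := by
    refine pElemClosure_le_of_isSubnormal hK.1 (Cfsg.pPrimeCore p X)
      Cores.coprime_card_pPrimeCore ?_
    rw [comap_map_eq, QuotientGroup.ker_mk']
  exact (hK.2.2 _ hR.1 hle hmap).symm

theorem isPComponent_unique {K L : Subgroup X} (hK : Cfsg.IsPComponent p K)
    (hL : Cfsg.IsPComponent p L) (h : K.map (coreMap p X) = L.map (coreMap p X)) : K = L := by
  rw [isPComponent_eq hK, isPComponent_eq hL, h]

theorem pComp_pElem {K : Subgroup X} (hK : Cfsg.IsPComponent p K) : pElemClosure p K = K := by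
  refine le_antisymm (pElemClosure_le K) ?_
  refine ((isPComponent_eq hK).le.trans (pElemClosure_le_iff.mpr fun x hx hxp => ?_))
  refine mem_pElemClosure ?_ hxp
  rw [comap_map_eq, QuotientGroup.ker_mk'] at hx
  exact mem_of_isSubnormal hK.1 _ Cores.coprime_card_pPrimeCore hxp hx

theorem pComp_perfect {K : Subgroup X} (hK : Cfsg.IsPComponent p K) : ⁅K, K⁆ = K := by
  refine hK.2.2 _ ?_ (Subgroup.commutator_le_self K) ?_
  · refine Subgroup.IsSubnormal.step _ K (Subgroup.commutator_le_self K) hK.1 ?_
    rw [normal_subgroupOf_iff_le_normalizer (Subgroup.commutator_le_self K)]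
    intro g hg
    rw [mem_normalizer_iff_map_conj_eq, map_commutator,
      mem_normalizer_iff_map_conj_eq.mp (le_normalizer hg)]
  · rw [map_commutator, Components.component_perfect hK.2.1]

theorem pComp_map_ne_bot {K : Subgroup X} (hK : Cfsg.IsPComponent p K) :
    K.map (coreMap p X) ≠ ⊥ :=
  Components.qsSub_ne_bot hK.2.1.2

theorem pComp_dvd {K : Subgroup X} (hK : Cfsg.IsPComponent p K) : p ∣ Nat.card K :=
  (component_dvd_card_quotient hK.2.1).trans (card_map_dvd K (coreMap p X))

theorem exists_unique_pComp {Kb : Subgroup (X ⧸ Cfsg.pPrimeCore p X)}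
    (hK : Cfsg.IsComponent Kb) :
    ∃! K : Subgroup X, Cfsg.IsPComponent p K ∧ K.map (coreMap p X) = Kb :=
  ⟨_, isPComponent_pElemClosure hK,
    fun _ hL => isPComponent_unique hL.1 (isPComponent_pElemClosure hK).1
      (hL.2.trans (isPComponent_pElemClosure hK).2.symm)⟩

theorem pComp_le_pLayer {K : Subgroup X} (hK : Cfsg.IsPComponent p K) : K ≤ Cfsg.pLayer p X :=
  le_sSup hK

theorem map_pLayer :
    (Cfsg.pLayer p X).map (coreMap p X) = Cfsg.layer (X ⧸ Cfsg.pPrimeCore p X) := by
  refine le_antisymm (map_le_iff_le_comap.mpr (sSup_le fun K hK => ?_))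
    (Components.layer_le_iff.mpr fun Kb hKb => ?_)
  · exact map_le_iff_le_comap.mp (Components.component_le_layer hK.2.1)
  · obtain ⟨h1, h2⟩ := isPComponent_pElemClosure hKb
    exact h2.ge.trans (map_mono (pComp_le_pLayer h1))

theorem pLayer_le_comap_layer :
    Cfsg.pLayer p X ≤ (Cfsg.layer (X ⧸ Cfsg.pPrimeCore p X)).comap (coreMap p X) :=
  map_le_iff_le_comap.mp map_pLayer.le

/-- The `p`-layer normalizes every `p`-component. -/
theorem pLayer_le_normalizer {K : Subgroup X} (hK : Cfsg.IsPComponent p K) :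
    Cfsg.pLayer p X ≤ normalizer (K : Set X) := by
  conv_rhs => rw [isPComponent_eq hK]
  refine le_trans ?_ (normalizer_le_normalizer_pElemClosure _)
  refine pLayer_le_comap_layer.trans
    ((comap_mono (Components.layer_le_normalizer_component hK.2.1)).trans ?_)
  exact Subgroup.le_normalizer_comap _

theorem pComp_conj {K : Subgroup X} (hK : Cfsg.IsPComponent p K) (g : X) :
    Cfsg.IsPComponent p (K.map (MulAut.conj g).toMonoidHom) := by
  have he : (K.map (MulAut.conj g).toMonoidHom).map (coreMap p X) =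
      (K.map (coreMap p X)).map (MulAut.conj (coreMap p X g)).toMonoidHom := by
    rw [map_map, map_map]
    congr 1
  have hcomp := Components.component_conj hK.2.1 (coreMap p X g)
  refine ⟨Components.isSubnormal_conj hK.1 g, by rw [he]; exact hcomp, fun H hsn hle heq => ?_⟩
  have hc : ∀ A : Subgroup X, (A.map (MulAut.conj g⁻¹).toMonoidHom).map
      (MulAut.conj g).toMonoidHom = A := fun A => by ext; simp [mul_assoc]
  have hle' : H.map (MulAut.conj g⁻¹).toMonoidHom ≤ K := by
    rintro _ ⟨y, hy, rfl⟩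
    obtain ⟨k, hk, rfl⟩ := hle hy
    simpa [mul_assoc] using hk
  rw [← hK.2.2 _ (Components.isSubnormal_conj hsn g⁻¹) hle' ?_, hc]
  have h2 := congrArg (Subgroup.map (MulAut.conj (coreMap p X g⁻¹)).toMonoidHom) heq
  rw [he] at h2
  have hd : ∀ A : Subgroup X, (A.map (MulAut.conj g⁻¹).toMonoidHom).map (coreMap p X) =
      (A.map (coreMap p X)).map (MulAut.conj (coreMap p X g⁻¹)).toMonoidHom := by
    intro A
    rw [map_map, map_map]
    congr 1
  rw [hd]
  refine h2.trans ?_
  ext y
  simp [mul_assoc]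

instance pLayer_normal : (Cfsg.pLayer p X).Normal := by
  refine normalizer_eq_top_iff.mp (top_le_iff.mp fun g _ => ?_)
  have hle : ∀ g : X, (Cfsg.pLayer p X).map (MulAut.conj g).toMonoidHom ≤ Cfsg.pLayer p X :=
    fun g => map_le_iff_le_comap.mpr
      (sSup_le fun K hK => map_le_iff_le_comap.mp (pComp_le_pLayer (pComp_conj hK g)))
  rw [mem_normalizer_iff]
  intro x
  refine ⟨fun hx => hle g ⟨x, hx, rfl⟩, fun hx => ?_⟩
  have := hle g⁻¹ ⟨_, hx, rfl⟩
  simpa [mul_assoc] using this

/-- The `p'`-core of a `p`-component. -/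
theorem map_pPrimeCore_pComp {K : Subgroup X} (hK : Cfsg.IsPComponent p K) :
    (Cfsg.pPrimeCore p K).map K.subtype = K ⊓ Cfsg.pPrimeCore p X := by
  refine le_antisymm (le_inf (map_subtype_le _) (Cores.map_pPrimeCore_le_of_isSubnormal hK.1)) ?_
  rintro x ⟨hxK, hxO⟩
  exact ⟨⟨x, hxK⟩, Cores.subgroupOf_pPrimeCore_le K hxO, rfl⟩

/-- Distinct `p`-components commute modulo `O_{p'}(X)`. -/
theorem pComp_commutator_le {K L : Subgroup X} (hK : Cfsg.IsPComponent p K)
    (hL : Cfsg.IsPComponent p L) (hne : K ≠ L) : ⁅K, L⁆ ≤ Cfsg.pPrimeCore p X := by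
  have h := Components.components_commute hK.2.1 hL.2.1
    fun he => hne (isPComponent_unique hK hL he)
  rw [← map_commutator, Subgroup.map_eq_bot_iff, QuotientGroup.ker_mk'] at h
  exact h

/-- A subnormal subgroup of a `p`-component is the whole of it or abelian modulo the core. -/
theorem pComp_subnormal_cases {K H : Subgroup X} (hK : Cfsg.IsPComponent p K)
    (hH : H.IsSubnormal) (hle : H ≤ K) :
    H = K ∨ ⁅K, H⁆ ≤ Cfsg.pPrimeCore p X := by
  have hs := QuotientGroup.mk'_surjective (Cfsg.pPrimeCore p X)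
  have hHs : (H.map (coreMap p X)).IsSubnormal := hH.map hs
  rcases Components.qs_subnormal hK.2.1.2 (hHs.subgroupOf (K := K.map (coreMap p X))) with h | h
  · exact Or.inl (hK.2.2 H hH hle
      (le_antisymm (map_mono hle) (subgroupOf_eq_top.mp h)))
  · right
    have h1 : ⁅K.map (coreMap p X), H.map (coreMap p X)⁆ = ⊥ := by
      rw [← commutator_top_left_eq_bot_iff_le_center] at h
      have h2 := congrArg (Subgroup.map (K.map (coreMap p X)).subtype) h
      rwa [map_commutator, ← MonoidHom.range_eq_map, range_subtype,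
        Components.map_subgroupOf (map_mono hle), Subgroup.map_bot] at h2
    rwa [← map_commutator, Subgroup.map_eq_bot_iff, QuotientGroup.ker_mk'] at h1

theorem pComp_isQuasisimple_iff {K : Subgroup X} (hK : Cfsg.IsPComponent p K) :
    Cfsg.IsQuasisimple K ↔ ⁅K, K ⊓ Cfsg.pPrimeCore p X⁆ = ⊥ := by
  constructor
  · intro h
    rcases Components.qsSub_normal h (Components.le_normalizer_of_normal
      (A := Cfsg.pPrimeCore p X) K) with h1 | h1
    · exfalso
      apply pComp_map_ne_bot hK
      rw [Subgroup.map_eq_bot_iff, QuotientGroup.ker_mk']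
      exact h1
    · exact h1
  · intro h
    haveI : Nontrivial K := by
      rw [nontrivial_iff_ne_bot]
      rintro rfl
      exact pComp_map_ne_bot hK (Subgroup.map_bot _)
    refine Components.qs_of_perfect (Subgroup.isPerfect_iff.mpr (pComp_perfect hK)) ?_
    intro N hN hNt
    have hsn : (N.map K.subtype).IsSubnormal := hN.isSubnormal.trans' hK.1
    rcases pComp_subnormal_cases hK hsn (map_subtype_le N) with he | he
    · exact absurd (map_subtype_inj.mp (he.trans
        (by rw [← MonoidHom.range_eq_map, range_subtype]))) hNt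
    · have h2 : ⁅K, N.map K.subtype⁆ ≤ K ⊓ Cfsg.pPrimeCore p X :=
        le_inf ((commutator_mono le_rfl (map_subtype_le N)).trans (commutator_le_self K)) he
      have h3 : ⁅⁅K, N.map K.subtype⁆, K⁆ = ⊥ := by
        rw [eq_bot_iff, ← h, commutator_comm K (K ⊓ _)]
        exact commutator_mono h2 le_rfl
      have h4 := Components.commutator_eq_bot_of_perfect (pComp_perfect hK) h3
      intro x hx
      rw [mem_center_iff]
      exact fun y => Subtype.ext (Components.commute_of_commutator_eq_bot h4 y.2 ⟨x, hx, rfl⟩)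

theorem pLayer_eq_bot_iff :
    Cfsg.pLayer p X = ⊥ ↔ Cfsg.layer (X ⧸ Cfsg.pPrimeCore p X) = ⊥ := by
  constructor
  · intro h
    rw [← map_pLayer, h, Subgroup.map_bot]
  · intro h
    refine le_bot_iff.mp (sSup_le fun K hK => absurd ?_ (pComp_map_ne_bot hK))
    exact le_bot_iff.mp (h ▸ Components.component_le_layer hK.2.1)

end Cfsg.Agent.H40
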