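import Cfsg.Agent.H40.Conj
import Cfsg.Agent.H40.PComp
import Cfsg.Agent.Components.Layer
import Cfsg.Agent.Components.PLocal

/-!
Action of `p'`-subgroups of centralizers of `p`-elements on the components, for `O_{p'}(G) = 1`.
-/

namespace Cfsg.Agent.H40

open Subgroup
open scoped Pointwise commutatorElement

variable {G : Type*} [Group G]

/-- The centre of the layer, in `G`. -/
abbrev ZE (G : Type*) [Group G] : Subgroup G :=
  (center ↥(Cfsg.layer G)).map (Cfsg.layer G).subtype

/-- The join of the `P`-conjugates of `L`. -/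
abbrev orbitJoin (P L : Subgroup G) : Subgroup G := ⨆ π : P, cj (π : G) L

theorem mem_ZE {x : G} :
    x ∈ ZE G ↔ x ∈ Cfsg.layer G ∧ ∀ y ∈ Cfsg.layer G, y * x = x * y :=
  Components.mem_center_map_iff _ _

theorem orbitJoin_le_layer {P L : Subgroup G} (hL : Cfsg.IsComponent L) :
    orbitJoin P L ≤ Cfsg.layer G :=
  iSup_le fun _ => Components.component_le_layer (component_cj hL _)

theorem orbitJoin_commute {P L K : Subgroup G} (hL : Cfsg.IsComponent L)
    (hK : Cfsg.IsComponent K) (h : ∀ π ∈ P, cj π L ≠ K) :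
    orbitJoin P L ≤ centralizer (K : Set G) :=
  iSup_le fun π => commutator_eq_bot_iff_le_centralizer.mp
    (Components.components_commute (component_cj hL _) hK (h π π.2))

theorem layer_le_normalizer_centralizer {L : Subgroup G} (hL : Cfsg.IsComponent L) :
    Cfsg.layer G ≤ normalizer ((centralizer (L : Set G) : Subgroup G) : Set G) :=
  (Components.layer_le_normalizer_component hL).trans (fun g hg => by
    rw [mem_normalizer_iff]
    intro v
    have key : ∀ g ∈ normalizer (L : Set G), ∀ v ∈ centralizer (L : Set G),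
        g * v * g⁻¹ ∈ centralizer (L : Set G) := by
      intro g hg v hv
      rw [mem_centralizer_iff]
      intro l hl
      have h1 := mem_centralizer_iff.mp hv _ ((mem_normalizer_iff''.mp hg l).mp hl)
      have h2 := congrArg (MulAut.conj g) h1
      simpa [mul_assoc] using h2
    refine ⟨key g hg v, fun h => ?_⟩
    simpa [mul_assoc] using key g⁻¹ (inv_mem hg) _ h)

theorem normalizer_le_normalizer_centralizer (L : Subgroup G) :
    normalizer (L : Set G) ≤ normalizer ((centralizer (L : Set G) : Subgroup G) : Set G) := by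
  intro g hg
  rw [mem_normalizer_iff]
  intro v
  have key : ∀ g ∈ normalizer (L : Set G), ∀ v ∈ centralizer (L : Set G),
      g * v * g⁻¹ ∈ centralizer (L : Set G) := by
    intro g hg v hv
    rw [mem_centralizer_iff]
    intro l hl
    have h1 := mem_centralizer_iff.mp hv _ ((mem_normalizer_iff''.mp hg l).mp hl)
    have h2 := congrArg (MulAut.conj g) h1
    simpa [mul_assoc] using h2
  refine ⟨key g hg v, fun h => ?_⟩
  simpa [mul_assoc] using key g⁻¹ (inv_mem hg) _ h

/-- An element normalizing a perfect `L` and trivial on `L` modulo `C(L)` centralizes `L`. -/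
theorem mem_centralizer_of_comm {L : Subgroup G} (hL : ⁅L, L⁆ = L) {y : G}
    (hy : y ∈ normalizer (L : Set G))
    (h : ∀ l ∈ L, y * l * y⁻¹ * l⁻¹ ∈ centralizer (L : Set G)) :
    y ∈ centralizer (L : Set G) := by
  have hmem : ∀ l : L, y * l * y⁻¹ * (l : G)⁻¹ ∈ L := fun l =>
    L.mul_mem ((mem_normalizer_iff.mp hy _).mp l.2) (L.inv_mem l.2)
  let f : L →* center L :=
    { toFun := fun l => ⟨⟨_, hmem l⟩, mem_center_iff.mpr fun m =>
        Subtype.ext (mem_centralizer_iff.mp (h l l.2) m m.2)⟩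
      map_one' := by
        apply Subtype.ext; apply Subtype.ext
        show y * ((1 : L) : G) * y⁻¹ * ((1 : L) : G)⁻¹ = 1
        simp
      map_mul' := fun a b => by
        apply Subtype.ext; apply Subtype.ext
        show y * ((a * b : L) : G) * y⁻¹ * ((a * b : L) : G)⁻¹ =
          (y * a * y⁻¹ * (a : G)⁻¹) * (y * b * y⁻¹ * (b : G)⁻¹)
        have h1 := mem_centralizer_iff.mp (h b b.2) _ (L.inv_mem a.2)
        calc y * ((a * b : L) : G) * y⁻¹ * ((a * b : L) : G)⁻¹
            = y * a * y⁻¹ * ((y * b * y⁻¹ * (b : G)⁻¹) * (a : G)⁻¹) := by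
              rw [Subgroup.coe_mul]; group
          _ = y * a * y⁻¹ * ((a : G)⁻¹ * (y * b * y⁻¹ * (b : G)⁻¹)) := by rw [h1]
          _ = _ := by group }
  have hk : (⊤ : Subgroup L) ≤ f.ker := by
    have h1 : ⁅(⊤ : Subgroup L), ⊤⁆ = (⊤ : Subgroup L) := by
      apply map_injective L.subtype_injective
      rw [map_commutator, ← MonoidHom.range_eq_map, range_subtype]
      exact hL
    rw [← h1, commutator_le]
    intro a _ b _
    rw [MonoidHom.mem_ker, map_commutatorElement, commutatorElement_eq_one_iff_mul_comm]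
    exact Subtype.ext (mem_center_iff.mp (f b).2 (f a))
  rw [mem_centralizer_iff]
  intro l hl
  have h2 : y * l * y⁻¹ * l⁻¹ = 1 :=
    congrArg (fun z : center L => ((z : L) : G)) (MonoidHom.mem_ker.mp (hk (mem_top ⟨l, hl⟩)))
  rw [mul_inv_eq_one, mul_inv_eq_iff_eq_mul] at h2
  exact h2.symm

variable [Finite G] {p : ℕ} [hp : Fact p.Prime]

theorem ZE_le_pCore (hO : Cfsg.pPrimeCore p G = ⊥) : ZE G ≤ Cfsg.pCore p G := by
  rw [ZE, Components.center_layer_eq_fitting_inf]
  exact inf_le_left.trans (Components.fitting_le_pCore hO)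

theorem exists_pElem_not_centralizing (hO : Cfsg.pPrimeCore p G = ⊥) {L : Subgroup G}
    (hL : Cfsg.IsComponent L) : ∃ l ∈ L, IsPElem p l ∧ l ∉ centralizer (L : Set G) := by
  by_contra h
  push Not at h
  have h1 : ⁅L, L⁆ = ⊥ := commutator_eq_bot_iff_le_centralizer.mpr
    (qs_le_of_pElems hL.2 (component_dvd_card hO hL) h)
  rw [Components.component_perfect hL] at h1
  exact Components.qsSub_ne_bot hL.2 h1

/-- For a `p`-group `P`: an almost fixed element of the orbit join. -/
theorem exists_orbit_element (hO : Cfsg.pPrimeCore p G = ⊥) {P L : Subgroup G}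
    (hP : IsPGroup p P) (hL : Cfsg.IsComponent L) :
    ∃ m ∈ orbitJoin P L, IsPElem p m ∧ (∀ π ∈ P, π * m * π⁻¹ * m⁻¹ ∈ ZE G) ∧
      m ∉ centralizer (L : Set G) := by
  have hPU : P ≤ normalizer (orbitJoin P L : Set G) := by
    have key : ∀ π ∈ P, ∀ v ∈ orbitJoin P L, π * v * π⁻¹ ∈ orbitJoin P L := by
      intro π hπ v hv
      have h1 : orbitJoin P L ≤ (orbitJoin P L).comap (MulAut.conj π).toMonoidHom := by
        refine iSup_le fun σ x hx => ?_
        refine le_iSup (fun τ : P => cj (τ : G) L) ⟨π * σ, P.mul_mem hπ σ.2⟩ ?_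
        rw [mem_cj] at hx ⊢
        simpa [mul_assoc] using hx
      exact h1 hv
    intro π hπ
    rw [mem_normalizer_iff]
    exact fun v => ⟨key π hπ v, fun h => by
      simpa [mul_assoc] using key π⁻¹ (P.inv_mem hπ) _ h⟩
  have hUZ : orbitJoin P L ≤ normalizer ((ZE G) : Set G) := by
    intro u hu
    have hue := orbitJoin_le_layer hL hu
    rw [mem_normalizer_iff]
    intro z
    constructor
    · intro hz
      rw [(mem_ZE.mp hz).2 u hue, mul_inv_cancel_right]
      exact hz
    · intro hz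
      have h1 : z = u * z * u⁻¹ := by
        have := (mem_ZE.mp hz).2 u hue
        calc z = u⁻¹ * (u * z * u⁻¹ * u) := by group
          _ = u⁻¹ * (u * (u * z * u⁻¹)) := by rw [this]
          _ = _ := by group
      rwa [h1]
  obtain ⟨l, hl, hlp, hlC⟩ := exists_pElem_not_centralizing hO hL
  have hlU : l ∈ orbitJoin P L :=
    le_iSup (fun π : P => cj (π : G) L) 1 (by rw [mem_cj]; simpa using hl)
  obtain ⟨m, hm, hmp, hmZ, hfix⟩ := exists_almost_fixed hP hPU hUZ
    ⟨l, hlU, hlp, fun hz => hlC (mem_centralizer_iff.mpr fun k hk =>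
      (mem_ZE.mp hz).2 k (Components.component_le_layer hL hk))⟩
  refine ⟨m, hm, hmp, hfix, fun hmL => hmZ ?_⟩
  have hmE := orbitJoin_le_layer hL hm
  refine mem_ZE.mpr ⟨hmE, ?_⟩
  suffices h : Cfsg.layer G ≤ centralizer ({m} : Set G) from
    fun y hy => mem_centralizer_singleton_iff.mp (h hy)
  refine Components.layer_le_iff.mpr fun K hK k hk => mem_centralizer_singleton_iff.mpr ?_
  by_cases hKD : ∀ π ∈ P, cj π L ≠ K
  · exact mem_centralizer_iff.mp (orbitJoin_commute hL hK hKD hm) k hk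
  · push Not at hKD
    obtain ⟨π, hπ, rfl⟩ := hKD
    have hkE := Components.component_le_layer (component_cj hL π) hk
    obtain ⟨u, hu, rfl⟩ := hk
    have h1 : u * m = m * u := mem_centralizer_iff.mp hmL u hu
    have hz := (mem_ZE.mp (hfix π hπ)).2 _ hkE
    show π * u * π⁻¹ * m = m * (π * u * π⁻¹)
    have c1 : Commute (π * u * π⁻¹) (π * m * π⁻¹ * m⁻¹) := hz
    have c2 : Commute (π * u * π⁻¹) (π * m * π⁻¹) := by
      show π * u * π⁻¹ * (π * m * π⁻¹) = π * m * π⁻¹ * (π * u * π⁻¹)
      calc π * u * π⁻¹ * (π * m * π⁻¹) = π * (u * m) * π⁻¹ := by group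
        _ = π * (m * u) * π⁻¹ := by rw [h1]
        _ = _ := by group
    have c3 := c1.inv_right.mul_right c2
    rwa [show (π * m * π⁻¹ * m⁻¹)⁻¹ * (π * m * π⁻¹) = m by group] at c3

theorem orbit_pow {P L : Subgroup G} {g : G} (hg : g ∈ centralizer (P : Set G)) {π : G}
    (hπ : π ∈ P) (h : cj g L = cj π L) : ∀ n : ℕ, cj (g ^ n) L = cj (π ^ n) L := by
  intro n
  induction n with
  | zero => simp
  | succ n ih =>
    have e1 : g ^ n * π = π * g ^ n :=
      (mem_centralizer_iff.mp ((centralizer (P : Set G)).pow_mem hg n) π hπ).symm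
    calc cj (g ^ (n + 1)) L = cj (g ^ n) (cj g L) := by rw [← cj_mul, pow_succ]
      _ = cj π (cj (g ^ n) L) := by rw [h, ← cj_mul, ← cj_mul, e1]
      _ = _ := by rw [ih, ← cj_mul, ← pow_succ']

/-- `g ^ p` preserves every `P`-orbit of components. -/
theorem pow_prime_orbit (hO : Cfsg.pPrimeCore p G = ⊥) {P : Subgroup G} (hP : IsPGroup p P)
    {g : G} (hgP : g ∈ centralizer (P : Set G)) (hgZ : g ∈ centralizer (ZE G : Set G))
    {W : Subgroup G} (hW : (Nat.card W).Coprime p)
    (hcong : ∀ c ∈ Cfsg.layer G, IsPElem p c → c ∈ centralizer (P : Set G) →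
      g * c * g⁻¹ * c⁻¹ ∈ W)
    {L : Subgroup G} (hL : Cfsg.IsComponent L) :
    ∃ π ∈ P, cj (g ^ p) L = cj π L := by
  by_cases h1 : ∃ π ∈ P, cj g L = cj π L
  · obtain ⟨π, hπ, he⟩ := h1
    exact ⟨π ^ p, P.pow_mem hπ p, orbit_pow hgP hπ he p⟩
  push Not at h1
  obtain ⟨m, hm, hmp, hfix, hmL⟩ := exists_orbit_element hO hP hL
  have hmE := orbitJoin_le_layer hL hm
  have hEn : ∀ v ∈ Cfsg.layer G, g * v * g⁻¹ ∈ Cfsg.layer G := fun v hv =>
    Components.layer_normal.conj_mem v hv g
  have hU : ∀ {h : G}, h ∈ centralizer (P : Set G) → ∀ v ∈ orbitJoin P L,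
      h * v * h⁻¹ ∈ orbitJoin P (cj h L) := by
    intro h hh v hv
    have hle : orbitJoin P L ≤ (orbitJoin P (cj h L)).comap (MulAut.conj h).toMonoidHom := by
      refine iSup_le fun π x hx => le_iSup (fun π : P => cj (π : G) (cj h L)) π ?_
      change _ ∈ cj (π : G) (cj h L)
      rw [← cj_mul, mem_centralizer_iff.mp hh π π.2, cj_mul]
      exact conj_mem_cj h hx
    exact hle hv
  set m' := g * m * g⁻¹ with hm'def
  set m'' := g * m' * g⁻¹ with hm''def
  have hm' : m' ∈ orbitJoin P (cj g L) := hU hgP m hm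
  have hm'' : m'' ∈ orbitJoin P (cj (g * g) L) := by
    have := hU (mul_mem hgP hgP) m hm
    rwa [show g * g * m * (g * g)⁻¹ = m'' by rw [hm''def, hm'def]; group] at this
  have hmm' : Commute m' m := by
    refine Components.commute_of_commutator_eq_bot ?_ hm' hm
    refine commutator_eq_bot_iff_le_centralizer.mpr (iSup_le fun π => ?_)
    rw [← commutator_eq_bot_iff_le_centralizer, commutator_comm,
      commutator_eq_bot_iff_le_centralizer]
    refine iSup_le fun σ => ?_
    refine commutator_eq_bot_iff_le_centralizer.mp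
      (Components.components_commute (component_cj hL _) (component_cj (component_cj hL g) _) ?_)
    intro he
    refine h1 ((π : G)⁻¹ * σ) (P.mul_mem (P.inv_mem π.2) σ.2) ?_
    rw [cj_mul, he, ← cj_mul, inv_mul_cancel, cj_one]
  set c := m' * m⁻¹ with hcdef
  have hcp : IsPElem p c := by
    obtain ⟨j, hj⟩ := hmp
    refine ⟨j, ?_⟩
    rw [hcdef, hmm'.inv_right.mul_pow, inv_pow, hj, hm'def, conj_pow, hj]
    simp
  have hcE : c ∈ Cfsg.layer G := mul_mem (hEn m hmE) (inv_mem hmE)
  have hcP : c ∈ centralizer (P : Set G) := by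
    rw [mem_centralizer_iff]
    intro π hπ
    have hz := hfix π hπ
    have hgz : g * (π * m * π⁻¹ * m⁻¹) * g⁻¹ = π * m * π⁻¹ * m⁻¹ := by
      rw [← mem_centralizer_iff.mp hgZ _ hz, mul_inv_cancel_right]
    have hπg : π * g = g * π := mem_centralizer_iff.mp hgP π hπ
    have e1 : π * m' * π⁻¹ = π * m * π⁻¹ * m⁻¹ * m' := by
      calc π * m' * π⁻¹ = (π * g) * m * (π * g)⁻¹ := by rw [hm'def]; group
        _ = g * (π * m * π⁻¹ * m⁻¹) * g⁻¹ * m' := by rw [hπg, hm'def]; group
        _ = _ := by rw [hgz]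
    have hzc := (mem_ZE.mp hz).2 c hcE
    have e2 : π * c * π⁻¹ = c := by
      calc π * c * π⁻¹ = (π * m' * π⁻¹) * (π * m * π⁻¹ * m⁻¹ * m)⁻¹ := by rw [hcdef]; group
        _ = π * m * π⁻¹ * m⁻¹ * c * (π * m * π⁻¹ * m⁻¹)⁻¹ := by rw [e1, hcdef]; group
        _ = _ := by rw [← hzc, mul_inv_cancel_right]
    exact mul_inv_eq_iff_eq_mul.mp e2
  have heW := hcong c hcE hcp hcP
  have heE : g * c * g⁻¹ * c⁻¹ ∈ Cfsg.layer G := mul_mem (hEn c hcE) (inv_mem hcE)
  have hee : g * c * g⁻¹ * c⁻¹ = m'' * m'⁻¹ * m * m'⁻¹ := by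
    rw [hcdef, hm''def, hm'def]; group
  have hLg : ∀ π ∈ P, cj π (cj g L) ≠ L := by
    intro π hπ he
    refine h1 π⁻¹ (P.inv_mem hπ) ?_
    conv_rhs => rw [← he, ← cj_mul, inv_mul_cancel, cj_one]
  have hm'C : m' ∈ centralizer (L : Set G) :=
    orbitJoin_commute (component_cj hL g) hL hLg hm'
  have hEN : ∀ {K : Subgroup G}, Cfsg.IsComponent K → ∀ v ∈ Cfsg.layer G,
      ∀ w ∈ centralizer (K : Set G), v * w * v⁻¹ ∈ centralizer (K : Set G) :=
    fun hK v hv w hw => (mem_normalizer_iff.mp (layer_le_normalizer_centralizer hK hv) w).mp hw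
  by_cases h2 : ∃ π ∈ P, cj (g * g) L = cj π L
  · obtain ⟨π, hπ, he⟩ := h2
    rcases hp.out.eq_two_or_odd' with rfl | hodd
    · exact ⟨π, hπ, by rwa [pow_two]⟩
    exfalso
    -- look at the component `g L g⁻¹`
    set L' := cj g L with hL'
    have hL'c := component_cj hL g
    have hmL' : m ∈ centralizer (L' : Set G) :=
      orbitJoin_commute hL hL'c (fun σ hσ hσe => h1 σ hσ hσe.symm) hm
    have hm''L' : m'' ∈ centralizer (L' : Set G) := by
      refine orbitJoin_commute (component_cj hL _) hL'c (fun σ hσ hσe => ?_) hm''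
      refine h1 (σ * π) (P.mul_mem hσ hπ) ?_
      exact hσe.symm.trans (by rw [he, ← cj_mul])
    have hm'2 : m' * m' ∈ centralizer (L' : Set G) := by
      have key := mem_of_congr (N := centralizer (L' : Set G)) (c := (m' * m')⁻¹) hW
        (inv_mem (layer_le_normalizer_centralizer hL'c (mul_mem (hEn m hmE) (hEn m hmE))))
        (layer_le_normalizer_centralizer hL'c heE) heW ?_ ?_
      · simpa using inv_mem key
      · obtain ⟨j, hj⟩ := hmp
        refine ⟨j, ?_⟩
        rw [inv_pow, (Commute.refl m').mul_pow, hm'def, conj_pow, hj]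
        simp
      · rw [hee, show (m' * m')⁻¹⁻¹ * (m'' * m'⁻¹ * m * m'⁻¹) =
          ((m' * m') * m'' * (m' * m')⁻¹) * (m' * m * m'⁻¹) by simp [mul_assoc]]
        exact mul_mem (hEN hL'c _ (mul_mem (hEn m hmE) (hEn m hmE)) _ hm''L')
          (hEN hL'c _ (hEn m hmE) _ hmL')
    have hm'L' : m' ∈ centralizer (L' : Set G) := by
      obtain ⟨j, hj⟩ := hmp
      have hj' : m' ^ p ^ j = 1 := by rw [hm'def, conj_pow, hj]; simp
      obtain ⟨k, hk⟩ := hodd.pow (n := j)
      have h3 := (centralizer (L' : Set G)).pow_mem hm'2 (k + 1)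
      rwa [← pow_two, ← pow_mul, show 2 * (k + 1) = p ^ j + 1 by omega, pow_succ, hj', one_mul]
        at h3
    refine hmL (mem_centralizer_iff.mpr fun l hl => ?_)
    have h4 := mem_centralizer_iff.mp hm'L' _ (conj_mem_cj g hl)
    rw [hm'def] at h4
    have h5 := congrArg (fun v => g⁻¹ * v * g) h4
    simpa [mul_assoc] using h5
  · exfalso
    push Not at h2
    have hm''C : m'' ∈ centralizer (L : Set G) := by
      refine orbitJoin_commute (component_cj hL _) hL (fun σ hσ he => ?_) hm''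
      refine h2 σ⁻¹ (P.inv_mem hσ) ?_
      conv_rhs => rw [← he, ← cj_mul, inv_mul_cancel, cj_one]
    refine hmL (mem_of_congr hW (layer_le_normalizer_centralizer hL hmE)
      (layer_le_normalizer_centralizer hL heE) heW hmp ?_)
    rw [hee, show m⁻¹ * (m'' * m'⁻¹ * m * m'⁻¹) =
      m⁻¹ * (m'' * m'⁻¹) * (m⁻¹)⁻¹ * m'⁻¹ by group]
    exact mul_mem (hEN hL _ (inv_mem hmE) _ (mul_mem hm''C (inv_mem hm'C))) (inv_mem hm'C)

/-- A power of `p` of `g` normalizes every component. -/
theorem pow_normalizes (hO : Cfsg.pPrimeCore p G = ⊥) {P : Subgroup G} (hP : IsPGroup p P)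
    {g : G} (hgP : g ∈ centralizer (P : Set G)) (hgZ : g ∈ centralizer (ZE G : Set G))
    {W : Subgroup G} (hW : (Nat.card W).Coprime p)
    (hcong : ∀ c ∈ Cfsg.layer G, IsPElem p c → c ∈ centralizer (P : Set G) →
      g * c * g⁻¹ * c⁻¹ ∈ W) :
    ∃ n : ℕ, ∀ L : Subgroup G, Cfsg.IsComponent L → g ^ p ^ n ∈ normalizer (L : Set G) := by
  obtain ⟨j, hj⟩ := IsPGroup.iff_card.mp hP
  refine ⟨j + 1, fun L hL => ?_⟩
  obtain ⟨π, hπ, he⟩ := pow_prime_orbit hO hP hgP hgZ hW hcong hL
  have h := orbit_pow ((centralizer (P : Set G)).pow_mem hgP p) hπ he (p ^ j)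
  rw [← pow_mul, ← pow_succ'] at h
  have h1 : π ^ p ^ j = 1 := by
    rw [← hj]
    exact congrArg Subtype.val (pow_card_eq_one' (x := (⟨π, hπ⟩ : P)))
  rw [h1, cj_one] at h
  exact cj_eq_iff.mp h

/-- The conditions on `Y`: a `p'`-subgroup of `C(x)` normalized by `C(x)`. -/
structure IsCentralSignalizer (p : ℕ) (x : G) (Y : Subgroup G) : Prop where
  pelem : IsPElem p x
  le_centralizer : Y ≤ centralizer ({x} : Set G)
  normalized : centralizer ({x} : Set G) ≤ normalizer (Y : Set G)
  coprime : (Nat.card Y).Coprime p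

theorem isCentralSignalizer_core {x : G} (hx : IsPElem p x) :
    IsCentralSignalizer p x (Cfsg.centralizerPPrimeCore p x) where
  pelem := hx
  le_centralizer := map_subtype_le _
  normalized := Components.le_normalizer_map_subtype _
  coprime := by
    rw [Cfsg.centralizerPPrimeCore, card_map_of_injective (subtype_injective _)]
    exact Cores.coprime_card_pPrimeCore

theorem centralizer_zpowers_eq (x : G) :
    centralizer (zpowers x : Set G) = centralizer ({x} : Set G) := by
  rw [zpowers_eq_closure, centralizer_closure]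

theorem isPGroup_zpowers {x : G} (hx : IsPElem p x) : IsPGroup p (zpowers x) := by
  obtain ⟨k, hk⟩ := hx
  rintro ⟨y, hy⟩
  obtain ⟨n, rfl⟩ := mem_zpowers_iff.mp hy
  refine ⟨k, Subtype.ext ?_⟩
  show (x ^ n) ^ p ^ k = 1
  rw [← zpow_natCast, ← zpow_mul, mul_comm, zpow_mul, zpow_natCast, hk, one_zpow]

/-- `Y` centralizes `O_p(G)`. -/
theorem sig_le_centralizer_pCore {x : G} {Y : Subgroup G} (h : IsCentralSignalizer p x Y) :
    Y ≤ centralizer (Cfsg.pCore p G : Set G) := by
  refine Coprime.thompson_AxB (P := zpowers x) (isPGroup_zpowers h.pelem) h.coprime ?_ _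
    Cores.pCore_isPGroup (Components.le_normalizer_of_normal _)
    (Components.le_normalizer_of_normal _) ?_
  · refine zpowers_le.mpr (mem_centralizer_iff.mpr fun y hy => ?_)
    exact mem_centralizer_singleton_iff.mp (h.le_centralizer hy)
  · rintro w ⟨hw, hwx⟩
    rw [centralizer_zpowers_eq] at hwx
    rw [mem_centralizer_iff]
    intro y hy
    have h1 : y * w * y⁻¹ * w⁻¹ ∈ Cfsg.pCore p G ⊓ Y := by
      refine ⟨mul_mem ((Cfsg.pCore_normal p G).conj_mem w hw y) ((Cfsg.pCore p G).inv_mem hw), ?_⟩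
      have := (mem_normalizer_iff.mp (h.normalized hwx) _).mp (Y.inv_mem hy)
      rw [show y * w * y⁻¹ * w⁻¹ = y * (w * y⁻¹ * w⁻¹) by group]
      exact Y.mul_mem hy this
    rw [Cores.disjoint_of_isPGroup_of_coprime Cores.pCore_isPGroup h.coprime, mem_bot,
      mul_inv_eq_one, mul_inv_eq_iff_eq_mul] at h1
    exact h1

theorem sig_le_centralizer_ZE (hO : Cfsg.pPrimeCore p G = ⊥) {x : G} {Y : Subgroup G}
    (h : IsCentralSignalizer p x Y) : Y ≤ centralizer (ZE G : Set G) :=
  (sig_le_centralizer_pCore h).trans (centralizer_le (ZE_le_pCore hO))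

/-- `Y` normalizes every component. -/
theorem sig_le_normalizer (hO : Cfsg.pPrimeCore p G = ⊥) {x : G} {Y : Subgroup G}
    (h : IsCentralSignalizer p x Y) {L : Subgroup G} (hL : Cfsg.IsComponent L) :
    Y ≤ normalizer (L : Set G) := by
  intro y hy
  have hcong : ∀ c ∈ Cfsg.layer G, IsPElem p c → c ∈ centralizer (zpowers x : Set G) →
      y * c * y⁻¹ * c⁻¹ ∈ Y := by
    intro c _ _ hc
    rw [centralizer_zpowers_eq] at hc
    have := (mem_normalizer_iff.mp (h.normalized hc) _).mp (Y.inv_mem hy)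
    rw [show y * c * y⁻¹ * c⁻¹ = y * (c * y⁻¹ * c⁻¹) by group]
    exact Y.mul_mem hy this
  obtain ⟨n, hn⟩ := pow_normalizes (g := y) hO (isPGroup_zpowers h.pelem)
    (by rw [centralizer_zpowers_eq]; exact h.le_centralizer hy) (sig_le_centralizer_ZE hO h hy)
    h.coprime hcong
  have hcop : (p ^ n).Coprime (orderOf y) := by
    refine (h.coprime.coprime_dvd_left ?_).symm.pow_left n
    rw [← Subgroup.orderOf_mk y hy]
    exact orderOf_dvd_natCard _
  have h2 : y ∈ zpowers (y ^ p ^ n) := mem_zpowers_pow_iff.mpr hcop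
  exact zpowers_le.mpr (hn L hL) h2

/-- `Y` centralizes `L` unless `x` normalizes but does not centralize `L`. -/
theorem sig_le_centralizer (hO : Cfsg.pPrimeCore p G = ⊥) {x : G} (hx : orderOf x = p)
    {Y : Subgroup G} (h : IsCentralSignalizer p x Y) {L : Subgroup G}
    (hL : Cfsg.IsComponent L)
    (hcase : x ∈ centralizer (L : Set G) ∨ x ∉ normalizer (L : Set G)) :
    Y ≤ centralizer (L : Set G) := by
  rcases hcase with hxL | hxL
  · have hLC : L ≤ centralizer ({x} : Set G) := fun l hl =>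
      mem_centralizer_singleton_iff.mpr (mem_centralizer_iff.mp hxL l hl)
    refine commutator_eq_bot_iff_le_centralizer.mp ?_
    rw [commutator_comm]
    refine (Components.qs_subnormal_le_or_commutator_eq_bot hL.2 hLC hL.1.subgroupOf
      h.le_centralizer h.normalized).resolve_left fun hle => ?_
    exact hp.out.not_dvd_one (h.coprime ▸ Nat.dvd_gcd
      ((component_dvd_card hO hL).trans (card_dvd_of_le hle)) dvd_rfl)
  intro y hy
  have hyL := sig_le_normalizer hO h hL hy
  set C' := Cfsg.layer G ⊓ centralizer (L : Set G) with hC'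
  set W := Y ⊓ Cfsg.layer G with hW
  have hWc : (Nat.card W).Coprime p := h.coprime.coprime_dvd_left (card_dvd_of_le inf_le_left)
  have hnot : ∀ i, 0 < i → i < p → x ^ i ∉ normalizer (L : Set G) := by
    intro i hi hip hmem
    have hcop : i.Coprime (orderOf x) := by
      rw [hx]
      exact ((hp.out.coprime_iff_not_dvd).mpr (Nat.not_dvd_of_pos_of_lt hi hip)).symm
    exact hxL (zpowers_le.mpr hmem (mem_zpowers_pow_iff.mpr hcop))
  have hne : ∀ i, 0 < i → i < p → cj (x ^ i) L ≠ L := fun i hi hip he =>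
    hnot i hi hip (cj_eq_iff.mp he)
  -- the diagonal element of `l`
  have key : ∀ l ∈ L, ∃ c ∈ centralizer ({x} : Set G), c ∈ Cfsg.layer G ∧ l⁻¹ * c ∈ C' := by
    intro l hl
    let r : ℕ → G := fun n => Nat.rec 1 (fun i a => a * (x ^ (i + 1) * l * (x ^ (i + 1))⁻¹)) n
    have hr0 : r 0 = 1 := rfl
    have hrs : ∀ n, r (n + 1) = r n * (x ^ (n + 1) * l * (x ^ (n + 1))⁻¹) := fun _ => rfl
    have hrE : ∀ n, r n ∈ Cfsg.layer G := by
      intro n
      induction n with
      | zero => rw [hr0]; exact one_mem _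
      | succ n ih =>
        rw [hrs]
        exact mul_mem ih (Components.component_le_layer (component_cj hL _) (conj_mem_cj _ hl))
    have hrC : ∀ n, n < p → r n ∈ centralizer (L : Set G) := by
      intro n
      induction n with
      | zero => intro _; rw [hr0]; exact one_mem _
      | succ n ih =>
        intro hn
        rw [hrs]
        refine mul_mem (ih (by omega)) (commutator_eq_bot_iff_le_centralizer.mp
          (Components.components_commute (component_cj hL (x ^ (n + 1))) hL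
            (hne _ n.succ_pos hn)) (conj_mem_cj _ hl))
    have hshift : ∀ n, x * (l * r n) * x⁻¹ = r (n + 1) := by
      intro n
      induction n with
      | zero => rw [hrs, hr0]; simp
      | succ n ih =>
        calc x * (l * r (n + 1)) * x⁻¹
            = (x * (l * r n) * x⁻¹) * (x ^ (n + 2) * l * (x ^ (n + 2))⁻¹) := by
              rw [hrs, pow_succ' x (n + 1)]; group
          _ = _ := by rw [ih]
    obtain ⟨q, hq⟩ : ∃ q, p = q + 1 := ⟨p - 1, by have := hp.out.pos; omega⟩
    refine ⟨l * r q, ?_, mul_mem (Components.component_le_layer hL hl) (hrE q),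
      by rw [inv_mul_cancel_left]; exact ⟨hrE q, hrC q (by omega)⟩⟩
    have hxp : x ^ (q + 1) = 1 := by rw [← hq, ← hx, pow_orderOf_eq_one]
    have hfix : x * (l * r q) * x⁻¹ = l * r q := by
      rw [hshift, hrs, hxp]
      simpa using (mem_centralizer_iff.mp (hrC q (by omega)) l hl).symm
    rw [mem_centralizer_singleton_iff]
    exact (mul_inv_eq_iff_eq_mul.mp hfix).symm
  have hC'n : ∀ v ∈ Cfsg.layer G, v ∈ normalizer (C' : Set G) := fun v hv =>
    inf_normalizer_le_normalizer_inf ⟨le_normalizer hv, layer_le_normalizer_centralizer hL hv⟩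
  have hnorm : L ≤ normalizer ((W ⊔ C' : Subgroup G) : Set G) := by
    intro l hl
    obtain ⟨c, hcx, hcE, hcl⟩ := key l hl
    have hcN : c ∈ normalizer ((W ⊔ C' : Subgroup G) : Set G) :=
      Components.inf_normalizer_le_normalizer_sup _ _
        ⟨inf_normalizer_le_normalizer_inf ⟨h.normalized hcx, le_normalizer hcE⟩, hC'n c hcE⟩
    rw [show l = c * (l⁻¹ * c)⁻¹ by group]
    exact mul_mem hcN (le_normalizer (mem_sup_right (inv_mem hcl)))
  have hcent : L ⊓ (W ⊔ C') ≤ centralizer (L : Set G) := by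
    rcases Components.qsSub_normal hL.2 hnorm with hle | hz
    · exfalso
      obtain ⟨l, hl, hlp, hlC⟩ := exists_pElem_not_centralizing hO hL
      obtain ⟨k, hk, w, hw, hwk⟩ := (Coprime.mem_sup_iff
        (H := W) (N := C') fun v hv => hC'n v hv.2).mp (sup_comm W C' ▸ hle hl)
      refine hlC (mem_of_congr hWc
        (layer_le_normalizer_centralizer hL (Components.component_le_layer hL hl))
        (layer_le_normalizer_centralizer hL hw.2) hw hlp ?_)
      rw [← hwk, show (k * w)⁻¹ * w = w⁻¹ * k⁻¹ * (w⁻¹)⁻¹ by group]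
      exact (mem_normalizer_iff.mp (layer_le_normalizer_centralizer hL (inv_mem hw.2)) _).mp
        (inv_mem hk.2)
    · refine commutator_eq_bot_iff_le_centralizer.mp ?_
      rw [commutator_comm]
      exact hz
  refine mem_centralizer_of_comm (Components.component_perfect hL) hyL fun l hl => hcent ?_
  refine ⟨L.mul_mem ((mem_normalizer_iff.mp hyL l).mp hl) (L.inv_mem hl), ?_⟩
  obtain ⟨c, hcx, hcE, hcl⟩ := key l hl
  have e1 : y * c * y⁻¹ * c⁻¹ ∈ W := by
    refine ⟨?_, mul_mem (Components.layer_normal.conj_mem c hcE y) ((Cfsg.layer G).inv_mem hcE)⟩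
    have := (mem_normalizer_iff.mp (h.normalized hcx) _).mp (Y.inv_mem hy)
    rw [show y * c * y⁻¹ * c⁻¹ = y * (c * y⁻¹ * c⁻¹) by group]
    exact Y.mul_mem hy this
  have hy' : y * (l⁻¹ * c) * y⁻¹ ∈ C' :=
    ⟨Components.layer_normal.conj_mem _ hcl.1 y,
      (mem_normalizer_iff.mp (normalizer_le_normalizer_centralizer L hyL) _).mp hcl.2⟩
  rw [show y * l * y⁻¹ * l⁻¹ = (y * c * y⁻¹ * c⁻¹) *
    (c * ((y * (l⁻¹ * c) * y⁻¹)⁻¹ * (l⁻¹ * c)) * c⁻¹) by group]
  exact mul_mem (mem_sup_left e1)
    (mem_sup_right ((mem_normalizer_iff.mp (hC'n c hcE) _).mp (mul_mem (inv_mem hy') hcl)))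

end Cfsg.Agent.H40
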