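import Cfsg.Agent.H40.BalanceMap
import Cfsg.Agent.Cores.Constrained

/-!
Balance criteria through components.
-/

namespace Cfsg.Agent.H40

open Subgroup
open scoped Pointwise commutatorElement

variable {G : Type*} [Group G] [Finite G] {p : ℕ} [hp : Fact p.Prime]

/-- If the image of `y` on `L` lies in a `p'`-core, `y` centralizes `L`. -/
theorem mem_centralizer_of_map_mem (hO : Cfsg.pPrimeCore p G = ⊥) {L : Subgroup G}
    (hL : Cfsg.IsComponent L) {H : Subgroup G} (hLH : L ≤ H) {Q : Type*} [Group Q] [Finite Q]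
    {f : ↥H →* Q} (hker : ∀ v : ↥H, f v = 1 ↔ (v : G) ∈ centralizer (L : Set G))
    {R : Subgroup Q} [R.Normal] (hR : (Nat.card R).Coprime p) {y : ↥H}
    (hyL : (y : G) ∈ normalizer (L : Set G)) (hy : f y ∈ R) :
    (y : G) ∈ centralizer (L : Set G) := by
  set V := (R.comap f).map H.subtype
  have hnorm : L ≤ normalizer (V : Set G) :=
    hLH.trans (Components.le_normalizer_map_subtype _)
  have hcent : L ⊓ V ≤ centralizer (L : Set G) := by
    rcases Components.qsSub_normal hL.2 hnorm with hle | hz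
    · exfalso
      obtain ⟨l, hl, hlp, hlC⟩ := exists_pElem_not_centralizing hO hL
      obtain ⟨v, hv, rfl⟩ := hle hl
      refine hlC ((hker v).mp (eq_one_of_isPElem_of_mem ?_ hv hR))
      refine IsPElem.map f ?_
      obtain ⟨k, hk⟩ := hlp
      exact ⟨k, Subtype.ext (by simpa using hk)⟩
    · rw [← commutator_eq_bot_iff_le_centralizer, commutator_comm]
      exact hz
  refine mem_centralizer_of_comm (Components.component_perfect hL) hyL fun l hl => hcent ?_
  refine ⟨L.mul_mem ((mem_normalizer_iff.mp hyL l).mp hl) (L.inv_mem hl),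
    y * ⟨l, hLH hl⟩ * y⁻¹ * ⟨l, hLH hl⟩⁻¹, ?_, rfl⟩
  show f _ ∈ R
  rw [map_mul, map_mul, map_mul, map_inv, map_inv, mul_assoc (f y), mul_assoc]
  refine R.mul_mem hy ?_
  exact (inferInstance : R.Normal).conj_mem _ (R.inv_mem hy) _

/-- The action of `N(L)` on `L / Z(L)`. -/
noncomputable def autHom (L : Subgroup G) {H : Subgroup G} (hH : H ≤ normalizer (L : Set G)) :
    ↥H →* MulAut (↥L ⧸ center ↥L) where
  toFun v := QuotientGroup.congr _ _ (L.normalizerMonoidHom (inclusion hH v))
    (Components.map_center_equiv _)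
  map_one' := by
    apply MulEquiv.ext
    intro a
    induction a using QuotientGroup.induction_on with
    | H z => simp only [map_one]; rfl
  map_mul' u v := by
    apply MulEquiv.ext
    intro a
    induction a using QuotientGroup.induction_on with
    | H z => simp only [map_mul]; rfl

theorem autHom_apply {L H : Subgroup G} (hH : H ≤ normalizer (L : Set G)) (v : ↥H) (l : ↥L) :
    autHom L hH v (l : ↥L ⧸ center ↥L) =
      ((L.normalizerMonoidHom (inclusion hH v) l : ↥L) : ↥L ⧸ center ↥L) := rfl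

theorem normalizerMonoidHom_coe {L H : Subgroup G} (hH : H ≤ normalizer (L : Set G)) (v : ↥H)
    (l : ↥L) :
    ((L.normalizerMonoidHom (inclusion hH v) l : ↥L) : G) = (v : G) * l * (v : G)⁻¹ := rfl

theorem autHom_eq_one {L : Subgroup G} (hL : Cfsg.IsComponent L) {H : Subgroup G}
    (hH : H ≤ normalizer (L : Set G)) (v : ↥H) :
    autHom L hH v = 1 ↔ (v : G) ∈ centralizer (L : Set G) := by
  constructor
  · intro h
    refine mem_centralizer_of_comm (Components.component_perfect hL) (hH v.2) fun l hl => ?_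
    have h1 := DFunLike.congr_fun h ((⟨l, hl⟩ : ↥L) : ↥L ⧸ center ↥L)
    rw [autHom_apply, MulAut.one_apply, QuotientGroup.eq_iff_div_mem, div_eq_mul_inv] at h1
    rw [mem_centralizer_iff]
    intro k hk
    exact congrArg Subtype.val (mem_center_iff.mp h1 ⟨k, hk⟩)
  · intro h
    apply MulEquiv.ext
    intro a
    induction a using QuotientGroup.induction_on with
    | H z =>
      rw [autHom_apply, MulAut.one_apply]
      congr 1
      apply Subtype.ext
      rw [normalizerMonoidHom_coe, ← mem_centralizer_iff.mp h z z.2, mul_inv_cancel_right]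

theorem range_conj_le_autHom {L : Subgroup G} {H : Subgroup G}
    (hH : H ≤ normalizer (L : Set G)) (hLH : L ≤ H) :
    (MulAut.conj : ↥L ⧸ center ↥L →* MulAut (↥L ⧸ center ↥L)).range ≤ (autHom L hH).range := by
  rintro _ ⟨a, rfl⟩
  induction a using QuotientGroup.induction_on with
  | H l =>
    refine ⟨⟨l, hLH l.2⟩, MulEquiv.ext fun b => ?_⟩
    induction b using QuotientGroup.induction_on with
    | H m =>
      rw [autHom_apply, MulAut.conj_apply, ← QuotientGroup.mk_inv, ← QuotientGroup.mk_mul,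
        ← QuotientGroup.mk_mul]
      congr 1

/-- `Δ(A) = 1` when every component is locally `k`-balanced. -/
theorem delta_eq_bot (hO : Cfsg.pPrimeCore p G = ⊥) {k : ℕ} (hk : 1 ≤ k) {A : Subgroup G}
    (hA : Cfsg.IsElementaryAbelian p A) (hcard : Nat.card A = p ^ k)
    (h : ∀ L : Subgroup G, Cfsg.IsComponent L →
      Cfsg.IsLocallyKBalanced p k (↥L ⧸ center ↥L)) :
    Cfsg.signalizerDelta p A = ⊥ := by
  have hAne : A ≠ ⊥ := by
    rintro rfl
    rw [Subgroup.card_bot] at hcard
    exact (Nat.one_lt_pow (by omega) hp.out.one_lt).ne hcard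
  obtain ⟨⟨a₀, ha₀⟩, ha₀1'⟩ := A.ne_bot_iff_exists_ne_one.mp hAne
  have ha₀1 : a₀ ≠ 1 := fun h => ha₀1' (Subtype.ext h)
  have hpe : ∀ a ∈ A, IsPElem p a := fun a ha => ⟨1, by rw [pow_one]; exact hA.2 a ha⟩
  set Y := Cfsg.signalizerDelta p A
  have hYle : ∀ a ∈ A, a ≠ 1 → Y ≤ Cfsg.centralizerPPrimeCore p a := fun a ha ha1 =>
    iInf_le (fun a : {a : G // a ∈ A ∧ a ≠ 1} => Cfsg.centralizerPPrimeCore p (a : G)) ⟨a, ha, ha1⟩
  have hsig : ∀ a ∈ A, IsCentralSignalizer p a (Cfsg.centralizerPPrimeCore p a) :=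
    fun a ha => isCentralSignalizer_core (hpe a ha)
  refine eq_bot_of_centralizes hO ((hsig a₀ ha₀).coprime.coprime_dvd_left
    (card_dvd_of_le (hYle a₀ ha₀ ha₀1)))
    ((hYle a₀ ha₀ ha₀1).trans (sig_le_centralizer_pCore (hsig a₀ ha₀))) fun L hL => ?_
  by_cases hcase : ∃ a ∈ A, a ≠ 1 ∧
      (a ∈ centralizer (L : Set G) ∨ a ∉ normalizer (L : Set G))
  · obtain ⟨a, ha, ha1, hc⟩ := hcase
    exact (hYle a ha ha1).trans
      (sig_le_centralizer hO (orderOf_eq_prime (hA.2 a ha) ha1) (hsig a ha) hL hc)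
  push Not at hcase
  have hAN : A ≤ normalizer (L : Set G) := fun a ha => by
    rcases eq_or_ne a 1 with rfl | ha1
    · exact one_mem _
    · exact (hcase a ha ha1).2
  obtain ⟨H, hH⟩ : ∃ H, H = L ⊔ centralizer (A : Set G) ⊓ normalizer (L : Set G) := ⟨_, rfl⟩
  have hLH : L ≤ H := hH ▸ le_sup_left
  have hHN : H ≤ normalizer (L : Set G) := hH ▸ sup_le le_normalizer inf_le_right
  have hAH : A ≤ H := hH ▸ le_trans (le_inf (fun a ha => mem_centralizer_iff.mpr
    fun b hb => congrArg Subtype.val (hA.1.is_comm.comm (⟨b, hb⟩ : A) ⟨a, ha⟩)) hAN) le_sup_right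
  have hYN : Y ≤ normalizer (L : Set G) :=
    (hYle a₀ ha₀ ha₀1).trans (sig_le_normalizer hO (hsig a₀ ha₀) hL)
  have hYH : Y ≤ H := hH ▸ le_trans (le_inf (fun y hy => mem_centralizer_iff.mpr fun a ha => by
    rcases eq_or_ne a 1 with rfl | ha1
    · simp
    · exact (mem_centralizer_singleton_iff.mp ((hsig a ha).le_centralizer (hYle a ha ha1 hy))).symm)
    hYN) le_sup_right
  set f := (autHom L hHN).rangeRestrict
  have hker : ∀ v : ↥H, f v = 1 ↔ (v : G) ∈ centralizer (L : Set G) := fun v => by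
    rw [← autHom_eq_one hL hHN v, Subtype.ext_iff]
    rfl
  have hinj : Function.Injective (f.comp (inclusion hAH)) := by
    refine (injective_iff_map_eq_one _).mpr fun a ha => ?_
    by_contra ha1
    exact (hcase a a.2 fun h => ha1 (Subtype.ext h)).1 ((hker _).mp ha)
  set A' := (f.comp (inclusion hAH)).range
  have hA' : Cfsg.IsElementaryAbelian p A' := by
    refine ⟨⟨⟨?_⟩⟩, ?_⟩
    · rintro ⟨_, u, rfl⟩ ⟨_, v, rfl⟩
      apply Subtype.ext
      show f.comp (inclusion hAH) u * f.comp (inclusion hAH) v = _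
      rw [← map_mul, hA.1.is_comm.comm u v, map_mul]
      rfl
    · rintro _ ⟨u, rfl⟩
      rw [← map_pow, show u ^ p = 1 from Subtype.ext (by simpa using hA.2 u u.2), map_one]
  have hA'card : Nat.card A' = p ^ k := by
    rw [← hcard]
    exact (Nat.card_congr (MonoidHom.ofInjective hinj).toEquiv).symm
  have hzero := h L hL (autHom L hHN).range (range_conj_le_autHom hHN hLH) A' hA' hA'card
  intro y hy
  refine mem_centralizer_of_map_mem hO hL hLH hker (R := ⊥) (y := ⟨y, hYH hy⟩)
    (by rw [Subgroup.card_bot]; exact Nat.coprime_one_left p) (hYN hy) ?_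
  rw [← hzero, Cfsg.signalizerDelta, mem_iInf]
  rintro ⟨q, ⟨u, rfl⟩, hq⟩
  have hu1 : (u : G) ≠ 1 := fun h => hq (by rw [show u = 1 from Subtype.ext h, map_one])
  refine map_le_centralizerPPrimeCore hO (hsig u u.2) hL (hAN u.2) hLH ?_
    (MonoidHom.rangeRestrict_surjective _) hker (hAH u.2)
    ⟨⟨y, hYH hy⟩, hYle u u.2 hu1 hy, rfl⟩
  rw [hH]
  exact sup_le_sup_left (inf_le_inf_right _
    (centralizer_le (Set.singleton_subset_iff.mpr u.2))) _

/-- Images of normal `p'`-subgroups of centralizers lie in the cores of centralizers. -/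
theorem map_le_centralizerPPrimeCore_of_lift {C : Type*} [Group C] [Finite C] {Q : Type*} [Group Q]
    [Finite Q] (f : C →* Q) {a : C}
    (hlift : centralizer ({f a} : Set Q) ≤ (centralizer ({a} : Set C)).map f) {X : Subgroup C}
    (hXC : X ≤ centralizer ({a} : Set C))
    (hXn : centralizer ({a} : Set C) ≤ normalizer (X : Set C))
    (hX : (Nat.card X).Coprime p) :
    X.map f ≤ Cfsg.centralizerPPrimeCore p (f a) := by
  set D := centralizer ({f a} : Set Q)
  have hle : X.map f ≤ D := by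
    rintro _ ⟨x, hx, rfl⟩
    rw [mem_centralizer_singleton_iff, ← map_mul, ← map_mul,
      mem_centralizer_singleton_iff.mp (hXC hx)]
  have hnorm : D ≤ normalizer ((X.map f : Subgroup Q) : Set Q) :=
    hlift.trans ((map_mono hXn).trans (le_normalizer_map _))
  haveI : ((X.map f).subgroupOf D).Normal := (normal_subgroupOf_iff_le_normalizer hle).mpr hnorm
  have hc : (Nat.card ((X.map f).subgroupOf D)).Coprime p := by
    rw [Nat.card_congr (subgroupOfEquivOfLe hle).toEquiv]
    exact hX.coprime_dvd_left (card_map_dvd _ f)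
  have h2 := map_mono (f := D.subtype) (Cores.le_pPrimeCore hc)
  rwa [Components.map_subgroupOf hle] at h2

/-- `k`-balance from local `k`-balance of the components modulo cores of centralizers. -/
theorem isKBalanced_of_components {k : ℕ} (hk : 1 ≤ k)
    (h : ∀ x : G, orderOf x = p → ∀ K : Subgroup (↥(centralizer ({x} : Set G)) ⧸
        Cfsg.pPrimeCore p ↥(centralizer ({x} : Set G))), Cfsg.IsComponent K →
      Cfsg.IsLocallyKBalanced p k (↥K ⧸ center ↥K)) :
    Cfsg.IsKBalanced p k G := by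
  intro A hA hcard b hb hcomm
  set C := centralizer ({b} : Set G)
  have hAC : A ≤ C := fun a ha => mem_centralizer_singleton_iff.mpr (hcomm a ha)
  set O := Cfsg.pPrimeCore p ↥C
  set π := QuotientGroup.mk' O
  set A₁ := A.subgroupOf C
  have hA₁ : ∀ a : ↥C, a ∈ A₁ → IsPElem p a := fun a ha =>
    ⟨1, Subtype.ext (by simpa using hA.2 a ha)⟩
  set Ab := A₁.map π
  have hAb : Cfsg.IsElementaryAbelian p Ab := by
    refine ⟨⟨⟨?_⟩⟩, ?_⟩
    · rintro ⟨_, u, hu, rfl⟩ ⟨_, v, hv, rfl⟩
      apply Subtype.ext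
      show π u * π v = π v * π u
      rw [← map_mul, ← map_mul]
      congr 1
      apply Subtype.ext
      show (u : G) * v = v * u
      exact congrArg Subtype.val (hA.1.is_comm.comm (⟨(u : G), hu⟩ : A) ⟨(v : G), hv⟩)
    · rintro _ ⟨u, hu, rfl⟩
      rw [← map_pow, show u ^ p = 1 from Subtype.ext (by simpa using hA.2 u hu), map_one]
  have hdisj : A₁ ⊓ π.ker = ⊥ := by
    rw [eq_bot_iff]
    rintro v ⟨hv, hvO⟩
    rw [QuotientGroup.ker_mk'] at hvO
    exact eq_one_of_isPElem_of_mem (hA₁ v hv) hvO Cores.coprime_card_pPrimeCore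
  have hAbc : Nat.card Ab = p ^ k := by
    rw [← hcard, ← Nat.card_congr (subgroupOfEquivOfLe hAC).toEquiv]
    refine (Nat.card_eq_of_bijective (π.subgroupMap A₁) ⟨?_, π.subgroupMap_surjective A₁⟩).symm
    refine (injective_iff_map_eq_one _).mpr fun v hv => Subtype.ext ?_
    exact (mem_bot.mp (hdisj ▸ mem_inf.mpr ⟨v.2, congrArg Subtype.val hv⟩ : (v : ↥C) ∈ ⊥))
  have hzero := delta_eq_bot (G := ↥C ⧸ O) Cores.pPrimeCore_quotient_pPrimeCore hk hAb hAbc
    (h b hb)
  rintro y ⟨hy, hyb⟩
  have key : π ⟨y, hyb⟩ ∈ Cfsg.signalizerDelta p Ab := by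
    rw [Cfsg.signalizerDelta, mem_iInf]
    rintro ⟨_, ⟨u, hu, rfl⟩, hu1⟩
    have hu0 : (u : G) ≠ 1 := fun h0 => hu1 (by rw [show u = 1 from Subtype.ext h0, map_one])
    set X := (Cfsg.centralizerPPrimeCore p (u : G)).subgroupOf C with hX
    refine map_le_centralizerPPrimeCore_of_lift π (X := X) ?_ ?_ ?_ ?_ ⟨⟨y, hyb⟩, ?_, rfl⟩
    · have := Cores.map_centralizer_of_coprime (p := p) O Cores.coprime_card_pPrimeCore
        (isPGroup_zpowers (hA₁ u hu))
      rw [MonoidHom.map_zpowers] at this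
      rw [centralizer_zpowers_eq, centralizer_zpowers_eq] at this
      exact this.ge
    · intro v hv
      exact mem_centralizer_singleton_iff.mpr
        (Subtype.ext (mem_centralizer_singleton_iff.mp (map_subtype_le _ hv)))
    · refine le_trans ?_ (le_normalizer_comap _)
      intro v hv
      exact (isCentralSignalizer_core (p := p) (hA₁ u hu |>.map C.subtype)).normalized
        (mem_centralizer_singleton_iff.mpr
          (congrArg Subtype.val (mem_centralizer_singleton_iff.mp hv)))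
    · refine (isCentralSignalizer_core (p := p) (hA₁ u hu |>.map C.subtype)).coprime.coprime_dvd_left ?_
      exact card_comap_dvd_of_injective _ C.subtype C.subtype_injective
    · exact mem_iInf.mp hy ⟨u, hu, hu0⟩
  rw [hzero, mem_bot, QuotientGroup.mk'_apply, QuotientGroup.eq_one_iff] at key
  exact ⟨⟨y, hyb⟩, key, rfl⟩

end Cfsg.Agent.H40
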