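import Cfsg.Prelude.Def_Balance
import Cfsg.Agent.H40.Balance

/-!
Transfer of a signalizer to the automorphism image on a component, and vanishing.
-/

namespace Cfsg.Agent.H40

open Subgroup
open scoped Pointwise commutatorElement

variable {G : Type*} [Group G] [Finite G] {p : ℕ} [hp : Fact p.Prime]

/-- A `p'`-subgroup centralizing `O_p(G)` and every component is trivial. -/
theorem eq_bot_of_centralizes (hO : Cfsg.pPrimeCore p G = ⊥) {Y : Subgroup G}
    (hY : (Nat.card Y).Coprime p) (hQ : Y ≤ centralizer (Cfsg.pCore p G : Set G))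
    (hL : ∀ L : Subgroup G, Cfsg.IsComponent L → Y ≤ centralizer (L : Set G)) : Y = ⊥ := by
  have hYC : Y ≤ centralizer (Cfsg.generalizedFittingSubgroup G : Set G) := by
    rw [← commutator_eq_bot_iff_le_centralizer, commutator_comm,
      commutator_eq_bot_iff_le_centralizer]
    refine sup_le ?_ ((Components.fitting_le_pCore hO).trans ?_)
    · refine Components.layer_le_iff.mpr fun L hLc => ?_
      rw [← commutator_eq_bot_iff_le_centralizer, commutator_comm,
        commutator_eq_bot_iff_le_centralizer]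
      exact hL L hLc
    · rw [← commutator_eq_bot_iff_le_centralizer, commutator_comm,
        commutator_eq_bot_iff_le_centralizer]
      exact hQ
  set F := Cfsg.generalizedFittingSubgroup G
  set Z := F ⊓ centralizer (F : Set G)
  have hYZ : Y ≤ Z := le_inf (hYC.trans Components.centralizer_genFitting_le) hYC
  haveI : IsMulCommutative Z := ⟨⟨fun a b => Subtype.ext
    ((mem_centralizer_iff.mp a.2.2 b b.2.1).symm)⟩⟩
  haveI : Z.Normal := inferInstance
  have hZF : Z ≤ Cfsg.fittingSubgroup G :=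
    Components.normal_nilpotent_le_fitting inferInstance (by
      open scoped IsMulCommutative in exact inferInstance)
  rw [eq_bot_iff, ← Cores.disjoint_of_isPGroup_of_coprime (Cores.pCore_isPGroup (p := p) (G := G)) hY]
  exact le_inf (hYZ.trans (hZF.trans (Components.fitting_le_pCore hO))) le_rfl

/-- If `[L, ⟨x⟩] ≠ L` then `x` does not act nontrivially on `L`. -/
theorem case_of_commutator_ne {L : Subgroup G} (hL : Cfsg.IsComponent L) {x : G}
    (hne : ⁅L, zpowers x⁆ ≠ L) :
    x ∈ centralizer (L : Set G) ∨ x ∉ normalizer (L : Set G) := by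
  by_contra hcon
  push Not at hcon
  obtain ⟨hxC, hxN⟩ := hcon
  have hxN' : zpowers x ≤ normalizer (L : Set G) := zpowers_le.mpr hxN
  have hle : ⁅L, zpowers x⁆ ≤ L := le_normalizer_iff_commutator_le_left.mp hxN'
  rcases Components.qsSub_normal hL.2 (normalizer_commutator_ge_left L (zpowers x)) with h | h
  · exact hne (le_antisymm hle h)
  · refine hxC ?_
    rw [inf_eq_right.mpr hle, commutator_comm] at h
    have h2 := Components.commutator_eq_bot_of_perfect (Components.component_perfect hL) h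
    rw [commutator_comm] at h2
    exact commutator_eq_bot_iff_le_centralizer.mp h2 (mem_zpowers x)

/-- Transfer of `Y` to a faithful image on `L` of a group between `L` and `L C(x)`. -/
theorem map_le_centralizerPPrimeCore (hO : Cfsg.pPrimeCore p G = ⊥) {x : G} {Y : Subgroup G}
    (h : IsCentralSignalizer p x Y) {L : Subgroup G} (hL : Cfsg.IsComponent L)
    (hxN : x ∈ normalizer (L : Set G)) {H : Subgroup G} (hLH : L ≤ H)
    (hH : H ≤ L ⊔ centralizer ({x} : Set G) ⊓ normalizer (L : Set G))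
    {Q : Type*} [Group Q] [Finite Q] {f : ↥H →* Q}
    (hf : Function.Surjective f)
    (hker : ∀ v : ↥H, f v = 1 ↔ (v : G) ∈ centralizer (L : Set G))
    (hx : x ∈ H) :
    (Y.subgroupOf H).map f ≤ Cfsg.centralizerPPrimeCore p (f ⟨x, hx⟩) := by
  obtain ⟨C', hC'⟩ : ∃ C', C' = H ⊓ (centralizer ({x} : Set G) ⊓ normalizer (L : Set G)) :=
    ⟨_, rfl⟩
  obtain ⟨Y₁, hY₁⟩ : ∃ Y₁, Y₁ = Y ⊓ H := ⟨_, rfl⟩
  have hYL : Y₁ ≤ normalizer (L : Set G) :=
    hY₁ ▸ inf_le_left.trans (sig_le_normalizer hO h hL)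
  have hY₁x : Y₁ ≤ centralizer ({x} : Set G) := hY₁ ▸ inf_le_left.trans h.le_centralizer
  have hYC' : Y₁ ≤ C' := hC' ▸ le_inf (hY₁ ▸ inf_le_right) (le_inf hY₁x hYL)
  have hC'H : C' ≤ H := hC' ▸ inf_le_left
  have hC'x : C' ≤ centralizer ({x} : Set G) := hC' ▸ inf_le_right.trans inf_le_left
  have hC'L : C' ≤ normalizer (L : Set G) := hC' ▸ inf_le_right.trans inf_le_right
  have hC'Y : C' ≤ normalizer (Y₁ : Set G) := by
    rw [hY₁]
    exact (le_inf (hC'x.trans h.normalized) (hC'H.trans le_normalizer)).trans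
      inf_normalizer_le_normalizer_inf
  set Cx := L ⊓ centralizer ({x} : Set G) with hCx
  have hCxC' : Cx ≤ C' :=
    hC' ▸ le_inf (inf_le_left.trans hLH) (le_inf inf_le_right (inf_le_left.trans le_normalizer))
  set N := Y₁ ⊔ Cx with hN
  have hNC' : N ≤ C' := sup_le hYC' hCxC'
  have hYN : N ≤ normalizer (Y₁ : Set G) := hNC'.trans hC'Y
  have hC'N : C' ≤ normalizer (N : Set G) := by
    refine (le_inf hC'Y ?_).trans (Components.inf_normalizer_le_normalizer_sup _ _)
    exact (le_inf hC'L (hC'x.trans le_normalizer)).trans inf_normalizer_le_normalizer_inf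
  rw [show Y.subgroupOf H = Y₁.subgroupOf H by rw [hY₁, inf_subgroupOf_right]]
  set C := centralizer ({f ⟨x, hx⟩} : Set Q)
  set A := (Y₁.subgroupOf H).map f
  set B := (N.subgroupOf H).map f
  have hNC : B ≤ C := by
    rintro _ ⟨v, hv, rfl⟩
    rw [mem_centralizer_singleton_iff, ← map_mul, ← map_mul]
    congr 1
    exact Subtype.ext (mem_centralizer_singleton_iff.mp (hC'x (hNC' hv)))
  have hAB : A ≤ B := map_mono (comap_mono le_sup_left)
  have hA1 : B ≤ normalizer (A : Set Q) :=
    (map_mono ((comap_mono hYN).trans (le_normalizer_comap _))).trans (le_normalizer_map _)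
  have hB1 : C ≤ normalizer (B : Set Q) := by
    intro q hq
    obtain ⟨⟨v, hv⟩, rfl⟩ := hf q
    have hzero : f (⟨x, hx⟩ * ⟨v, hv⟩ * ⟨x, hx⟩⁻¹ * ⟨v, hv⟩⁻¹) = 1 := by
      rw [map_mul, map_mul, map_mul, map_inv, map_inv,
        ← mem_centralizer_singleton_iff.mp hq, mul_inv_cancel_right, mul_inv_cancel]
    have hcom := (hker _).mp hzero
    refine le_normalizer_map f (mem_map_of_mem f (le_normalizer_comap _ ?_))
    show v ∈ normalizer (N : Set G)
    change x * v * x⁻¹ * v⁻¹ ∈ centralizer (L : Set G) at hcom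
    obtain ⟨l, hl, c, hc, rfl⟩ := (Coprime.mem_sup_iff
      (H := centralizer ({x} : Set G) ⊓ normalizer (L : Set G)) (N := L) inf_le_right).mp (hH hv)
    have hcH : c ∈ C' := hC' ▸ mem_inf.mpr ⟨by
      simpa using H.mul_mem (H.inv_mem (hLH hl)) hv, hc⟩
    refine mul_mem ?_ (hC'N hcH)
    set z := x * l * x⁻¹ * l⁻¹ with hzdef
    have hzeq : x * (l * c) * x⁻¹ * (l * c)⁻¹ = z := by
      have e := mem_centralizer_singleton_iff.mp hc.1
      calc x * (l * c) * x⁻¹ * (l * c)⁻¹ = x * l * (c * x⁻¹ * c⁻¹) * l⁻¹ := by group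
        _ = x * l * (c * (c * x)⁻¹) * l⁻¹ := by rw [mul_inv_rev, mul_assoc c]
        _ = x * l * (c * (x * c)⁻¹) * l⁻¹ := by rw [e]
        _ = _ := by rw [hzdef]; group
    rw [hzeq] at hcom
    have hzL : z ∈ L := L.mul_mem ((mem_normalizer_iff.mp hxN l).mp hl) (L.inv_mem hl)
    have hzE : z ∈ ZE G := by
      refine mem_ZE.mpr ⟨Components.component_le_layer hL hzL, ?_⟩
      suffices hs : Cfsg.layer G ≤ centralizer ({z} : Set G) from
        fun y hy => mem_centralizer_singleton_iff.mp (hs hy)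
      refine Components.layer_le_iff.mpr fun K hK k hk => mem_centralizer_singleton_iff.mpr ?_
      by_cases hKL : K = L
      · exact mem_centralizer_iff.mp hcom k (hKL ▸ hk)
      · exact Components.commute_of_commutator_eq_bot (Components.components_commute hK hL hKL) hk hzL
    have hxl : x * l * x⁻¹ = z * l := by rw [hzdef]; group
    have hY2 : ∀ y ∈ Y₁, l * y * l⁻¹ * y⁻¹ ∈ Cx := by
      intro y hy
      have hyx : y * x = x * y := mem_centralizer_singleton_iff.mp (hY₁x hy)
      have hvL : l * y * l⁻¹ * y⁻¹ ∈ L := by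
        rw [show l * y * l⁻¹ * y⁻¹ = l * (y * l⁻¹ * y⁻¹) by group]
        exact L.mul_mem hl ((mem_normalizer_iff.mp (hYL hy) _).mp (L.inv_mem hl))
      refine ⟨hvL, mem_centralizer_singleton_iff.mpr ?_⟩
      have hyz : z * y = y * z :=
        mem_centralizer_iff.mp (sig_le_centralizer_ZE hO h (hY₁ ▸ hy : y ∈ Y ⊓ H).1) z hzE
      have e1 : x * (l * y * l⁻¹ * y⁻¹) * x⁻¹ =
          z * (l * y * l⁻¹ * y⁻¹) * z⁻¹ := by
        have hxy : x * y * x⁻¹ = y := by rw [← hyx, mul_inv_cancel_right]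
        calc x * (l * y * l⁻¹ * y⁻¹) * x⁻¹
            = (x * l * x⁻¹) * (x * y * x⁻¹) * (x * l * x⁻¹)⁻¹ * (x * y * x⁻¹)⁻¹ := by group
          _ = (z * l) * y * (z * l)⁻¹ * y⁻¹ := by rw [hxl, hxy]
          _ = z * (l * y * l⁻¹) * (y * z)⁻¹ := by group
          _ = _ := by rw [← hyz]; group
      have hzc : Commute (l * y * l⁻¹ * y⁻¹) z :=
        mem_centralizer_iff.mp hcom _ hvL
      have e2 : x * (l * y * l⁻¹ * y⁻¹) * x⁻¹ = l * y * l⁻¹ * y⁻¹ := by
        rw [e1, ← hzc.eq, mul_inv_cancel_right]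
      exact (mul_inv_eq_iff_eq_mul.mp e2).symm
    have hCx2 : ∀ u ∈ Cx, l * u * l⁻¹ ∈ Cx := by
      rintro u ⟨huL, hux⟩
      have huv : l * u * l⁻¹ ∈ L := L.mul_mem (L.mul_mem hl huL) (L.inv_mem hl)
      refine ⟨huv, mem_centralizer_singleton_iff.mpr ?_⟩
      have hxu : x * u * x⁻¹ = u := by
        rw [← mem_centralizer_singleton_iff.mp hux, mul_inv_cancel_right]
      have e2 : x * (l * u * l⁻¹) * x⁻¹ = l * u * l⁻¹ := by
        calc x * (l * u * l⁻¹) * x⁻¹
            = (x * l * x⁻¹) * (x * u * x⁻¹) * (x * l * x⁻¹)⁻¹ := by group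
          _ = z * (l * u * l⁻¹) * z⁻¹ := by rw [hxl, hxu]; group
          _ = _ := by rw [← mem_centralizer_iff.mp hcom _ huv, mul_inv_cancel_right]
      exact (mul_inv_eq_iff_eq_mul.mp e2).symm
    have hmap : N.map (MulAut.conj l).toMonoidHom ≤ N := by
      rw [hN, Subgroup.map_sup]
      refine sup_le ?_ ?_
      · rintro _ ⟨y, hy, rfl⟩
        rw [show (MulAut.conj l).toMonoidHom y = (l * y * l⁻¹ * y⁻¹) * y by simp]
        exact mul_mem (mem_sup_right (hY2 y hy)) (mem_sup_left hy)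
      · rintro _ ⟨u, hu, rfl⟩
        exact mem_sup_right (hCx2 u hu)
    exact cj_eq_iff.mp (eq_of_le_of_card_ge hmap (card_cj l N).ge)
  have hA2 : (Nat.card A).Coprime p := by
    refine h.coprime.coprime_dvd_left ((card_map_dvd _ f).trans ?_)
    refine (Nat.card_congr (subgroupOfEquivOfLe (hYC'.trans hC'H)).toEquiv).dvd.trans ?_
    exact card_dvd_of_le (hY₁ ▸ inf_le_left)
  have hsn : (A.subgroupOf C).IsSubnormal := by
    refine Subgroup.IsSubnormal.step _ (B.subgroupOf C) (comap_mono hAB) ?_ ?_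
    · exact Subgroup.Normal.isSubnormal ((normal_subgroupOf_iff_le_normalizer hNC).mpr hB1)
    · refine (normal_subgroupOf_iff_le_normalizer (comap_mono hAB)).mpr ?_
      exact (comap_mono hA1).trans (le_normalizer_comap _)
  have hAc : (Nat.card (A.subgroupOf C)).Coprime p := by
    rwa [Nat.card_congr (subgroupOfEquivOfLe (hAB.trans hNC)).toEquiv]
  have h2 := map_mono (f := C.subtype) (Cores.le_pPrimeCore_of_isSubnormal hsn hAc)
  rwa [Components.map_subgroupOf (hAB.trans hNC)] at h2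

end Cfsg.Agent.H40
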