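import Cfsg.Agent.H40.PElem
import Cfsg.Agent.Coprime.Centralize

/-!
Conjugation of subgroups, congruences modulo a normalised subgroup.
-/

namespace Cfsg.Agent.H40

open Subgroup
open scoped Pointwise commutatorElement

variable {G : Type*} [Group G] {p : ℕ}

/-- The conjugate `g L g⁻¹`. -/
abbrev cj (g : G) (L : Subgroup G) : Subgroup G := L.map (MulAut.conj g).toMonoidHom

theorem mem_cj {g x : G} {L : Subgroup G} : x ∈ cj g L ↔ g⁻¹ * x * g ∈ L :=
  Coprime.mem_map_conj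

theorem cj_mul (g h : G) (L : Subgroup G) : cj (g * h) L = cj g (cj h L) :=
  (Coprime.map_conj_map_conj g h L).symm

theorem cj_one (L : Subgroup G) : cj (1 : G) L = L := Coprime.map_conj_one L

theorem conj_mem_cj (g : G) {x : G} {L : Subgroup G} (hx : x ∈ L) : g * x * g⁻¹ ∈ cj g L :=
  ⟨x, hx, rfl⟩

theorem cj_eq_iff {g : G} {L : Subgroup G} :
    cj g L = L ↔ g ∈ normalizer (L : Set G) :=
  ⟨Coprime.mem_normalizer_of_map_conj, fun h => Coprime.map_conj_eq h⟩

theorem component_cj {L : Subgroup G} (hL : Cfsg.IsComponent L) (g : G) :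
    Cfsg.IsComponent (cj g L) := Components.component_conj hL g

theorem card_cj (g : G) (L : Subgroup G) : Nat.card (cj g L) = Nat.card L :=
  Coprime.card_map_conj g L

/-- A component is generated by its `p`-elements when its order is divisible by `p`. -/
theorem qs_le_of_pElems [Finite G] [Fact p.Prime] {L K : Subgroup G}
    (hq : Cfsg.IsQuasisimple L) (hdvd : p ∣ Nat.card L)
    (h : ∀ x ∈ L, IsPElem p x → x ∈ K) : L ≤ K :=
  (pElemClosure_eq_self_of_qs hq hdvd).ge.trans (pElemClosure_le_iff.mpr h)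

/-- A `p`-element congruent to a `p'`-element modulo a subgroup normalised by both lies in it. -/
theorem mem_of_congr [Finite G] {N W : Subgroup G} {c w : G}
    (hW : (Nat.card W).Coprime p) (hcn : c ∈ normalizer (N : Set G))
    (hwn : w ∈ normalizer (N : Set G)) (hw : w ∈ W) (hc : IsPElem p c) (h : c⁻¹ * w ∈ N) :
    c ∈ N := by
  let N' := N.subgroupOf (normalizer (N : Set G))
  haveI : N'.Normal :=
    (normal_subgroupOf_iff_le_normalizer le_normalizer).mpr le_rfl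
  let f := QuotientGroup.mk' N'
  have h1 : f ⟨c, hcn⟩ = f ⟨w, hwn⟩ := by
    rw [QuotientGroup.mk'_apply, QuotientGroup.mk'_apply, QuotientGroup.eq]
    exact h
  have h2 : IsPElem p (⟨c, hcn⟩ : normalizer (N : Set G)) := by
    obtain ⟨k, hk⟩ := hc
    exact ⟨k, Subtype.ext (by simpa using hk)⟩
  have h3 : f ⟨w, hwn⟩ = 1 := by
    refine eq_one_of_isPElem_of_coprime (h1 ▸ h2.map f) (hW.coprime_dvd_left ?_)
    refine (orderOf_map_dvd f _).trans ?_
    rw [Subgroup.orderOf_mk, ← Subgroup.orderOf_mk w hw]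
    exact orderOf_dvd_natCard _
  rw [← h1] at h3
  exact (QuotientGroup.eq_one_iff (N := N') (⟨c, hcn⟩ : normalizer (N : Set G))).mp h3

/-- A `p`-group `P` acting on `U` fixes some `p`-element of `U` outside `Z` modulo `Z`. -/
theorem exists_almost_fixed [Finite G] [Fact p.Prime] {P U Z : Subgroup G} (hP : IsPGroup p P)
    (hPU : P ≤ normalizer (U : Set G)) (hUZ : U ≤ normalizer (Z : Set G))
    (h : ∃ u ∈ U, IsPElem p u ∧ u ∉ Z) :
    ∃ s ∈ U, IsPElem p s ∧ s ∉ Z ∧ ∀ π ∈ P, π * s * π⁻¹ * s⁻¹ ∈ Z := by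
  set M := U ⊔ P
  haveI hUM : (U.subgroupOf M).Normal :=
    (normal_subgroupOf_iff_le_normalizer le_sup_left).mpr (sup_le le_normalizer hPU)
  obtain ⟨T, hT⟩ := (hP.comap_subtype (K := M)).exists_le_sylow
  set S : Subgroup G := (T : Subgroup M).map M.subtype ⊓ U with hSdef
  have hSp : IsPGroup p S := (T.isPGroup'.map _).to_le inf_le_left
  have hPS : P ≤ normalizer (S : Set G) := by
    refine (le_inf ?_ hPU).trans inf_normalizer_le_normalizer_inf
    intro x hx
    exact le_normalizer ⟨⟨x, mem_sup_right hx⟩, hT hx, rfl⟩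
  have hSne : ¬ S ≤ Z := by
    intro hSZ
    obtain ⟨u, huU, hup, huZ⟩ := h
    obtain ⟨k, hk⟩ := hup
    have hup' : IsPGroup p (zpowers (⟨u, mem_sup_left huU⟩ : M)) := by
      rintro ⟨y, hy⟩
      obtain ⟨n, rfl⟩ := mem_zpowers_iff.mp hy
      refine ⟨k, Subtype.ext ?_⟩
      have hu1 : (⟨u, mem_sup_left huU⟩ : M) ^ (p ^ k) = 1 := Subtype.ext (by simpa using hk)
      show ((⟨u, _⟩ : M) ^ n) ^ (p ^ k) = 1
      rw [← zpow_natCast, ← zpow_mul, mul_comm, zpow_mul, zpow_natCast, hu1, one_zpow]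
    obtain ⟨T', hT'⟩ := hup'.exists_le_sylow
    obtain ⟨m, hm⟩ := MulAction.exists_smul_eq M T T'
    obtain ⟨a, ha, b, hb, hab⟩ := (Coprime.mem_sup_iff hPU).mp m.2
    have hu2 : (⟨u, mem_sup_left huU⟩ : M) ∈ ((m • T : Sylow p M) : Subgroup M) := by
      rw [hm]; exact hT' (mem_zpowers _)
    rw [Sylow.coe_subgroup_smul, mem_pointwise_smul_iff_inv_smul_mem] at hu2
    have hmem : (m : G)⁻¹ * u * m ∈ (T : Subgroup M).map M.subtype :=
      ⟨_, hu2, by simp [MulAut.smul_def, mul_assoc]⟩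
    have hbT : b ∈ (T : Subgroup M).map M.subtype := ⟨⟨b, mem_sup_right hb⟩, hT hb, rfl⟩
    have h1 : a⁻¹ * u * a ∈ S := by
      refine ⟨?_, U.mul_mem (U.mul_mem (U.inv_mem ha) huU) ha⟩
      have h2 := Subgroup.mul_mem _ (Subgroup.mul_mem _ hbT hmem) (Subgroup.inv_mem _ hbT)
      rw [← hab] at h2
      obtain ⟨y, hy, hy'⟩ := h2
      exact ⟨y, hy, hy'.trans (by simp [mul_assoc])⟩
    have h2 := (mem_normalizer_iff.mp (hUZ ha) _).mp (hSZ h1)
    exact huZ (by simpa [mul_assoc] using h2)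
  obtain ⟨V, ⟨hVS, hVZ, hVP⟩, hmin⟩ := (Set.toFinite
      {V : Subgroup G | V ≤ S ∧ ¬ V ≤ Z ∧ P ≤ normalizer (V : Set G)}).exists_minimal
    ⟨S, le_rfl, hSne, hPS⟩
  have hVne : V ≠ ⊥ := fun hb => hVZ (hb ▸ bot_le)
  have hlt := Coprime.commutator_lt_of_isPGroup (hSp.to_le hVS) hP hVP hVne
  have hVPZ : ⁅V, P⁆ ≤ Z := by
    by_contra hne
    exact hlt.not_ge (hmin ⟨hlt.le.trans hVS, hne, normalizer_commutator_ge_right V P⟩ hlt.le)
  obtain ⟨s, hsV, hsZ⟩ := SetLike.not_le_iff_exists.mp hVZ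
  refine ⟨s, (hVS hsV).2, isPElem_of_isPGroup (hSp.to_le hVS) hsV, hsZ, fun π hπ => ?_⟩
  rw [commutator_comm] at hVPZ
  exact hVPZ (commutator_mem_commutator hπ hsV)

end Cfsg.Agent.H40
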