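import Cfsg.Prelude.Def_Balance
import Cfsg.Agent.H40.PComp

/-!
The extended 2-layer: conjugation invariance and the single-Sylow description.
-/

namespace Cfsg.Agent.H40

open Subgroup
open scoped Pointwise

variable {X : Type*} [Group X]

/-- `O(C_X(S))` as a subgroup of `X`. -/
abbrev centCore (S : Subgroup X) : Subgroup X :=
  (Cfsg.oddCore ↥(centralizer (S : Set X))).map (centralizer (S : Set X)).subtype

theorem map_conj_centralizer (g : X) (S : Subgroup X) :
    (centralizer (S : Set X)).map (MulAut.conj g).toMonoidHom =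
      centralizer ((S.map (MulAut.conj g).toMonoidHom : Subgroup X) : Set X) := by
  ext x
  simp only [Subgroup.mem_map, mem_centralizer_iff, SetLike.mem_coe]
  constructor
  · rintro ⟨y, hy, rfl⟩ _ ⟨s, hs, rfl⟩
    rw [← map_mul, hy s hs, map_mul]
  · intro h
    refine ⟨g⁻¹ * x * g, fun s hs => ?_, by simp [mul_assoc]⟩
    have h1 := congrArg (MulAut.conj g⁻¹).toMonoidHom (h _ ⟨s, hs, rfl⟩)
    simpa [mul_assoc] using h1

theorem centCore_congr {S T : Subgroup X} (h : S = T) : centCore S = centCore T := by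
  subst h; rfl

theorem map_conj_centCore (g : X) (S : Subgroup X) :
    (centCore S).map (MulAut.conj g).toMonoidHom =
      centCore (S.map (MulAut.conj g).toMonoidHom) := by
  have hC := map_conj_centralizer g S
  let e : ↥(centralizer (S : Set X)) ≃*
      ↥(centralizer ((S.map (MulAut.conj g).toMonoidHom : Subgroup X) : Set X)) :=
    ((centralizer (S : Set X)).equivMapOfInjective (MulAut.conj g).toMonoidHom
      (MulAut.conj g).injective).trans (MulEquiv.subgroupCongr hC)
  simp only [centCore]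
  rw [show Cfsg.oddCore ↥(centralizer ((S.map (MulAut.conj g).toMonoidHom : Subgroup X) : Set X)) =
    (Cfsg.oddCore ↥(centralizer (S : Set X))).map e.toMonoidHom from
      (Cores.pPrimeCore_map_mulEquiv e).symm, map_map, map_map]
  rfl

theorem conj_map_sylow {M : Subgroup X} [M.Normal] (g : X) (T : Sylow 2 ↥M) :
    ∃ U : Sylow 2 ↥M, (U : Subgroup ↥M).map M.subtype =
      ((T : Subgroup ↥M).map M.subtype).map (MulAut.conj g).toMonoidHom := by
  let φ : MulAut ↥M := MulAut.conjNormal g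
  refine ⟨φ • T, ?_⟩
  rw [Sylow.pointwise_smul_def, map_map]
  ext x
  simp only [Subgroup.mem_map, mem_pointwise_smul_iff_inv_smul_mem, SetLike.mem_coe]
  constructor
  · rintro ⟨y, hy, rfl⟩
    refine ⟨φ⁻¹ • y, hy, ?_⟩
    simp only [MonoidHom.comp_apply, coe_subtype, MulEquiv.coe_toMonoidHom, MulAut.conj_apply,
      MulAut.smul_def]
    have h2 : φ (φ⁻¹ y) = y := MulAut.apply_inv_self M φ y
    have h3 := MulAut.conjNormal_apply (H := M) g (φ⁻¹ y)
    exact h3.symm.trans (congrArg Subtype.val h2)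
  · rintro ⟨y, hy, rfl⟩
    refine ⟨φ y, ?_, ?_⟩
    · rw [MulAut.smul_def]
      simpa using hy
    · simp [φ]

variable [Finite X]

instance layerCore_normal : (Cfsg.pLayer 2 X ⊔ Cfsg.pPrimePCore 2 X).Normal := by
  haveI : (Cfsg.pPrimePCore 2 X).Normal := Subgroup.Normal.comap inferInstance _
  infer_instance

theorem extendedTwoLayer_normal : (Cfsg.extendedTwoLayer X).Normal := by
  refine normalizer_eq_top_iff.mp (top_le_iff.mp fun g _ => ?_)
  have hle : ∀ g : X,
      (Cfsg.extendedTwoLayer X).map (MulAut.conj g).toMonoidHom ≤ Cfsg.extendedTwoLayer X := by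
    intro g
    have e1 : ∀ (N : Subgroup X) [N.Normal], N.map (MulAut.conj g).toMonoidHom = N := fun N _ =>
      mem_normalizer_iff_map_conj_eq.mp (by rw [normalizer_eq_top]; trivial)
    simp only [Cfsg.extendedTwoLayer, Subgroup.map_sup, Subgroup.map_iSup, e1]
    refine sup_le_sup_left (iSup_le fun T => ?_) _
    obtain ⟨U, hU⟩ := conj_map_sylow g T
    exact le_iSup_of_le U ((map_conj_centCore g _).le.trans (centCore_congr hU.symm).le)
  rw [mem_normalizer_iff]
  intro x
  refine ⟨fun hx => hle g ⟨x, hx, rfl⟩, fun hx => ?_⟩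
  have := hle g⁻¹ ⟨_, hx, rfl⟩
  simpa [mul_assoc] using this


theorem iSup_centCore_le {M : Subgroup X} (T : Sylow 2 ↥M) {K : Subgroup X}
    (hK : centCore ((T : Subgroup ↥M).map M.subtype) ≤ K)
    (hM : M ≤ normalizer (K : Set X)) :
    (⨆ U : Sylow 2 ↥M, centCore ((U : Subgroup ↥M).map M.subtype)) ≤ K := by
  refine iSup_le fun U => ?_
  obtain ⟨m, hm⟩ := MulAction.exists_smul_eq ↥M T U
  have hU : (U : Subgroup ↥M).map M.subtype =
      ((T : Subgroup ↥M).map M.subtype).map (MulAut.conj (m : X)).toMonoidHom := by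
    rw [← hm, Sylow.coe_subgroup_smul]
    ext z
    simp only [Subgroup.mem_map, mem_pointwise_smul_iff_inv_smul_mem]
    constructor
    · rintro ⟨y, hy, rfl⟩
      exact ⟨_, ⟨_, hy, rfl⟩, by simp [MulAut.smul_def, mul_assoc]⟩
    · rintro ⟨_, ⟨y, hy, rfl⟩, rfl⟩
      exact ⟨MulAut.conj m y, by simpa [MulAut.smul_def, mul_assoc] using hy, rfl⟩
  refine le_trans (le_of_eq ((centCore_congr hU).trans (map_conj_centCore _ _).symm)) ?_
  exact (map_mono hK).trans (le_of_eq (mem_normalizer_iff_map_conj_eq.mp (hM m.2)))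

theorem le_sup_sylow {M O P : Subgroup X} [O.Normal] (T : Sylow 2 ↥M) (hOM : O ≤ M)
    (hPM : P ≤ M) (hP : P.map (QuotientGroup.mk' O) ≤ Cfsg.pCore 2 (X ⧸ O)) :
    P ≤ O ⊔ (T : Subgroup ↥M).map M.subtype := by
  set f := QuotientGroup.mk' O with hf
  set S := (T : Subgroup ↥M).map M.subtype with hS
  have hker : f.ker = O := QuotientGroup.ker_mk' O
  have hSy : IsPGroup 2 ↥(S.map f) := (T.isPGroup'.map _).map _
  have hidx : ¬ 2 ∣ (S.map f).relIndex (M.map f) := by
    intro h2
    apply T.not_dvd_index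
    rw [relIndex_map_map, hker, sup_eq_left.mpr hOM] at h2
    rw [show (T : Subgroup ↥M).index = S.relIndex M by
      rw [hS, relIndex, subgroupOf, comap_map_eq_self_of_injective M.subtype_injective]]
    exact h2.trans (relIndex_dvd_of_le_left _ le_sup_left)
  let Q : Sylow 2 ↥(M.map f) := (hSy.comap_subtype (K := M.map f)).toSylow
    (by simpa [relIndex] using hidx)
  intro x hx
  have hyM : f x ∈ M.map f := mem_map_of_mem f (hPM hx)
  have hq := (Cores.subgroupOf_pCore_le (p := 2) (M.map f)).trans (Cores.pCore_le_sylow Q)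
    (show (⟨f x, hyM⟩ : ↥(M.map f)) ∈ (Cfsg.pCore 2 (X ⧸ O)).subgroupOf (M.map f) from
      hP (mem_map_of_mem f hx))
  have h4 : x ∈ (S.map f).comap f := hq
  rwa [comap_map_eq, hker, sup_comm] at h4

theorem extendedTwoLayer_eq (T : Sylow 2 ↥(Cfsg.pLayer 2 X ⊔ Cfsg.pPrimePCore 2 X)) :
    Cfsg.extendedTwoLayer X = Cfsg.pLayer 2 X ⊔ Cfsg.oddCore X ⊔
      centCore ((T : Subgroup ↥(Cfsg.pLayer 2 X ⊔ Cfsg.pPrimePCore 2 X)).map
        (Cfsg.pLayer 2 X ⊔ Cfsg.pPrimePCore 2 X).subtype) := by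
  have hOP : Cfsg.oddCore X ≤ Cfsg.pPrimePCore 2 X := by
    intro o ho
    show QuotientGroup.mk' (Cfsg.oddCore X) o ∈ Cfsg.pCore 2 (X ⧸ Cfsg.oddCore X)
    rw [QuotientGroup.mk'_apply, (QuotientGroup.eq_one_iff o).mpr ho]
    exact one_mem _
  have hP := le_sup_sylow T (O := Cfsg.oddCore X) (P := Cfsg.pPrimePCore 2 X)
    (hOP.trans le_sup_right) le_sup_right (map_comap_le _ _)
  set S := (T : Subgroup ↥(Cfsg.pLayer 2 X ⊔ Cfsg.pPrimePCore 2 X)).map
    (Cfsg.pLayer 2 X ⊔ Cfsg.pPrimePCore 2 X).subtype with hS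
  set K := Cfsg.pLayer 2 X ⊔ Cfsg.oddCore X ⊔ centCore S with hK
  have hKN : K ≤ normalizer (K : Set X) := le_normalizer
  have hSN : S ≤ normalizer (K : Set X) := by
    intro s hs
    have e1 : ∀ (A : Subgroup X) [A.Normal], A.map (MulAut.conj s).toMonoidHom = A := fun A _ =>
      mem_normalizer_iff_map_conj_eq.mp (by rw [normalizer_eq_top]; trivial)
    have h3 : S.map (MulAut.conj s).toMonoidHom = S :=
      mem_normalizer_iff_map_conj_eq.mp (le_normalizer hs)
    rw [mem_normalizer_iff_map_conj_eq]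
    show K.map (MulAut.conj s).toMonoidHom = K
    rw [hK, Subgroup.map_sup, Subgroup.map_sup, e1 (Cfsg.pLayer 2 X), e1 (Cfsg.oddCore X),
      map_conj_centCore, centCore_congr h3]
  have hMN : Cfsg.pLayer 2 X ⊔ Cfsg.pPrimePCore 2 X ≤ normalizer (K : Set X) :=
    sup_le ((le_sup_left.trans le_sup_left).trans hKN)
      (hP.trans (sup_le ((le_sup_right.trans le_sup_left).trans hKN) hSN))
  have h1 := iSup_centCore_le T (K := K) le_sup_right hMN
  have h2 : centCore S ≤ _ := le_iSup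
    (fun U : Sylow 2 ↥(Cfsg.pLayer 2 X ⊔ Cfsg.pPrimePCore 2 X) =>
      centCore ((U : Subgroup ↥(Cfsg.pLayer 2 X ⊔ Cfsg.pPrimePCore 2 X)).map
        (Cfsg.pLayer 2 X ⊔ Cfsg.pPrimePCore 2 X).subtype)) T
  rw [Cfsg.extendedTwoLayer]
  exact le_antisymm (sup_le le_sup_left h1) (sup_le_sup_left h2 _)

end Cfsg.Agent.H40
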