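import Cfsg.Agent.H40.Balance

/-!
The preimage of `E(N / O_{p'}(N))`, `N = N_G(P)`, normalizes every component of `G`.
-/

namespace Cfsg.Agent.H40

open Subgroup
open scoped Pointwise commutatorElement

variable {G : Type*} [Group G] [Finite G] {p : ℕ} [hp : Fact p.Prime]

/-- The intersection of the normalizers of the components. -/
abbrev compNormalizer (G : Type*) [Group G] : Subgroup G :=
  ⨅ L : {L : Subgroup G // Cfsg.IsComponent L}, normalizer ((L : Subgroup G) : Set G)

instance compNormalizer_normal : (compNormalizer G).Normal := by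
  refine ⟨fun x hx g => mem_iInf.mpr fun L => ?_⟩
  have h := mem_iInf.mp hx ⟨cj g⁻¹ (L : Subgroup G), component_cj L.2 _⟩
  rw [← cj_eq_iff] at h ⊢
  rw [mul_assoc, cj_mul, cj_mul, h, ← cj_mul, mul_inv_cancel, cj_one]

theorem layer_preimage_le_compNormalizer (hO : Cfsg.pPrimeCore p G = ⊥) {P : Subgroup G}
    (hP : IsPGroup p P) :
    ((Cfsg.layer (_ ⧸ Cfsg.pPrimeCore p ↥(normalizer (P : Set G)))).comap
        (coreMap p ↥(normalizer (P : Set G)))).map (normalizer (P : Set G)).subtype ≤
      compNormalizer G := by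
  set N := normalizer (P : Set G)
  have hCQ := Components.comap_layer_normalizer_le_centralizer (G := G) hP
  set X := (Cfsg.layer (↥N ⧸ Cfsg.pPrimeCore p ↥N)).comap (coreMap p ↥N) with hXdef
  have hXeq : X = Cfsg.pLayer p ↥N ⊔ Cfsg.pPrimeCore p ↥N := Components.comap_layer_eq
  have hCZ : X.map N.subtype ≤ centralizer (ZE G : Set G) :=
    hCQ.trans (centralizer_le (ZE_le_pCore hO))
  set W := (Cfsg.pPrimeCore p ↥N).map N.subtype with hW
  have hWc : (Nat.card W).Coprime p := by
    rw [hW, card_map_of_injective N.subtype_injective]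
    exact Cores.coprime_card_pPrimeCore
  have hWn : N ≤ normalizer (W : Set G) := Components.le_normalizer_map_subtype _
  haveI hPn : (P.subgroupOf N).Normal :=
    (normal_subgroupOf_iff_le_normalizer le_normalizer).mpr le_rfl
  haveI : (P.comap N.subtype).Normal := hPn
  have hXP : X.map N.subtype ≤ centralizer (P : Set G) := by
    rw [hXeq, Subgroup.map_sup]
    refine sup_le ?_ ?_
    · rw [map_le_iff_le_comap]
      refine sSup_le fun K hK => map_le_iff_le_comap.mp ?_
      rw [← commutator_eq_bot_iff_le_centralizer, commutator_comm]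
      have h1 := Components.pComponent_commutator_isPGroup hK
        (S := P.subgroupOf N) hP.comap_subtype
      have h2 := congrArg (Subgroup.map N.subtype) h1
      rwa [map_commutator, Subgroup.map_bot, Components.map_subgroupOf le_normalizer] at h2
    · rintro _ ⟨v, hv, rfl⟩
      rw [mem_centralizer_iff]
      intro w hw
      exact congrArg Subtype.val (Cores.commute_pCore_pPrimeCore
        (Cores.le_pCore hP.comap_subtype (show (⟨w, le_normalizer hw⟩ : ↥N) ∈ P.subgroupOf N from hw))
        hv).eq
  have hcore : W ≤ compNormalizer G := by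
    intro g hg
    have hgX : g ∈ X.map N.subtype := map_mono (hXeq.ge.trans' le_sup_right) hg
    obtain ⟨n, hn⟩ := pow_normalizes (g := g) hO hP (hXP hgX) (hCZ hgX) hWc (by
      intro c _ _ hc
      have hcN : c ∈ N := centralizer_le_normalizer _ hc
      rw [show g * c * g⁻¹ * c⁻¹ = g * (c * g⁻¹ * c⁻¹) by group]
      exact W.mul_mem hg ((mem_normalizer_iff.mp (hWn hcN) _).mp (W.inv_mem hg)))
    have hcop : (p ^ n).Coprime (orderOf g) := by
      refine (hWc.coprime_dvd_left ?_).symm.pow_left n
      rw [← Subgroup.orderOf_mk g hg]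
      exact orderOf_dvd_natCard _
    refine zpowers_le.mpr (mem_iInf.mpr fun L => ?_) (mem_zpowers_pow_iff.mpr hcop)
    exact hn L L.2
  rw [hXeq, Subgroup.map_sup]
  refine sup_le ?_ hcore
  rw [map_le_iff_le_comap]
  refine sSup_le fun K hK => map_le_iff_le_comap.mp ?_
  have hKX : K.map N.subtype ≤ X.map N.subtype :=
    map_mono (le_trans (le_sSup hK) (hXeq.ge.trans' le_sup_left))
  set EN := (Cfsg.layer G).subgroupOf N
  haveI : EN.Normal := inferInstance
  have hmapN : (EN.map (coreMap p ↥N)).Normal :=
    (inferInstance : EN.Normal).map _ (QuotientGroup.mk'_surjective _)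
  rcases Components.component_le_or_commutator_eq_bot_normal hK.2.1 (EN.map (coreMap p ↥N)) with
    hle | hc
  · refine le_trans ?_ (le_iInf fun L => Components.layer_le_normalizer_component L.2)
    refine (map_mono ?_).trans (map_comap_le N.subtype (Cfsg.layer G))
    conv_lhs => rw [← pComp_pElem hK]
    refine pElemClosure_le_of_isSubnormal (K := EN) (Subgroup.Normal.isSubnormal inferInstance)
      (Cfsg.pPrimeCore p ↥N) Cores.coprime_card_pPrimeCore ?_
    rw [map_le_iff_le_comap, comap_map_eq, QuotientGroup.ker_mk'] at hle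
    exact hle
  · rw [← map_commutator, Subgroup.map_eq_bot_iff, QuotientGroup.ker_mk'] at hc
    set M := compNormalizer G
    let ρ := (QuotientGroup.mk' M).comp (N.subtype.comp K.subtype)
    have hpg : IsPGroup p ρ.range := by
      rintro ⟨_, u, rfl⟩
      obtain ⟨n, hn⟩ := pow_normalizes (g := ((u : ↥N) : G)) hO hP (hXP (hKX ⟨_, u.2, rfl⟩))
        (hCZ (hKX ⟨_, u.2, rfl⟩)) hWc (by
        intro c hcE _ hcP
        have hcN : c ∈ N := centralizer_le_normalizer _ hcP
        exact ⟨⁅(u : ↥N), (⟨c, hcN⟩ : ↥N)⁆, hc (commutator_mem_commutator u.2 hcE), rfl⟩)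
      refine ⟨n, Subtype.ext ?_⟩
      show ρ u ^ p ^ n = 1
      rw [← map_pow]
      exact (QuotientGroup.eq_one_iff _).mpr (mem_iInf.mpr fun L => hn L L.2)
    haveI : Group.IsPerfect K := Subgroup.isPerfect_iff.mpr (pComp_perfect hK)
    haveI : Group.IsPerfect ρ.range :=
      Group.IsPerfect.ofSurjective (f := ρ.rangeRestrict) ρ.rangeRestrict_surjective
    have htriv : ρ.range = ⊥ := by
      by_contra hne
      haveI : Nontrivial ρ.range := (nontrivial_iff_ne_bot _).mpr hne
      haveI := hpg.isNilpotent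
      exact Group.IsPerfect.not_isSolvable ρ.range inferInstance
    rintro _ ⟨v, hv, rfl⟩
    exact (QuotientGroup.eq_one_iff (N := M) _).mp
      (MonoidHom.mem_ker.mp (MonoidHom.range_eq_bot_iff.mp htriv ▸ rfl : ρ ⟨v, hv⟩ = 1))

end Cfsg.Agent.H40
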