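import Mathlib.GroupTheory.Sylow
import Mathlib.GroupTheory.SchurZassenhaus
import Cfsg.Agent.Components.Basic
import Cfsg.Agent.Cores.PCore

/-!
`pElemClosure p M` = the subgroup generated by the `p`-elements of `M` (that is `O^{p'}(M)`).
-/

namespace Cfsg.Agent.H40

variable {G : Type*} [Group G] {H : Type*} [Group H] {p : ℕ}

/-- `x` is a `p`-element. -/
def IsPElem (p : ℕ) (x : G) : Prop := ∃ k : ℕ, x ^ (p ^ k) = 1

/-- The subgroup generated by the `p`-elements of `M`. -/
def pElemClosure (p : ℕ) (M : Subgroup G) : Subgroup G :=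
  Subgroup.closure {x : G | x ∈ M ∧ IsPElem p x}

theorem IsPElem.map (f : G →* H) {x : G} (hx : IsPElem p x) : IsPElem p (f x) := by
  obtain ⟨k, hk⟩ := hx
  exact ⟨k, by rw [← map_pow, hk, map_one]⟩

theorem IsPElem.conj (g : G) {x : G} (hx : IsPElem p x) : IsPElem p (g * x * g⁻¹) :=
  hx.map (MulAut.conj g).toMonoidHom

theorem isPElem_of_isPGroup {P : Subgroup G} (hP : IsPGroup p P) {x : G} (hx : x ∈ P) :
    IsPElem p x := by
  obtain ⟨k, hk⟩ := hP ⟨x, hx⟩
  exact ⟨k, by simpa using congrArg Subtype.val hk⟩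

theorem eq_one_of_isPElem_of_coprime {x : G} (hx : IsPElem p x)
    (h : (orderOf x).Coprime p) : x = 1 := by
  obtain ⟨k, hk⟩ := hx
  exact orderOf_eq_one_iff.mp
    (Nat.eq_one_of_dvd_coprimes (h.pow_right k) dvd_rfl (orderOf_dvd_of_pow_eq_one hk))

theorem eq_one_of_isPElem_of_mem {x : G} {N : Subgroup G} (hx : IsPElem p x) (hN : x ∈ N)
    (h : (Nat.card N).Coprime p) : x = 1 :=
  eq_one_of_isPElem_of_coprime hx
    (h.coprime_dvd_left (by
      rw [← Subgroup.orderOf_mk x hN]; exact orderOf_dvd_natCard _))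

theorem mem_pElemClosure {M : Subgroup G} {x : G} (hx : x ∈ M) (hp : IsPElem p x) :
    x ∈ pElemClosure p M :=
  Subgroup.subset_closure ⟨hx, hp⟩

theorem pElemClosure_le (M : Subgroup G) : pElemClosure p M ≤ M :=
  (Subgroup.closure_le M).mpr fun _ hx => hx.1

theorem pElemClosure_le_iff {M K : Subgroup G} :
    pElemClosure p M ≤ K ↔ ∀ x ∈ M, IsPElem p x → x ∈ K :=
  ⟨fun h _ hx hp => h (mem_pElemClosure hx hp),
    fun h => (Subgroup.closure_le K).mpr fun x hx => h x hx.1 hx.2⟩

theorem pElemClosure_mono {M N : Subgroup G} (h : M ≤ N) :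
    pElemClosure p M ≤ pElemClosure p N :=
  pElemClosure_le_iff.mpr fun _ hx hp => mem_pElemClosure (h hx) hp

theorem map_pElemClosure_le (f : G →* H) (M : Subgroup G) :
    (pElemClosure p M).map f ≤ pElemClosure p (M.map f) :=
  Subgroup.map_le_iff_le_comap.mpr <| pElemClosure_le_iff.mpr fun _ hx hp =>
    mem_pElemClosure (Subgroup.mem_map_of_mem f hx) (hp.map f)

theorem map_pElemClosure_conj (g : G) (M : Subgroup G) :
    (pElemClosure p M).map (MulAut.conj g).toMonoidHom =
      pElemClosure p (M.map (MulAut.conj g).toMonoidHom) := by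
  refine le_antisymm (map_pElemClosure_le _ M) (pElemClosure_le_iff.mpr ?_)
  rintro _ ⟨x, hx, rfl⟩ hp
  refine ⟨x, mem_pElemClosure hx ?_, rfl⟩
  have h2 := hp.conj g⁻¹
  simpa [mul_assoc] using h2

theorem normalizer_le_normalizer_pElemClosure (M : Subgroup G) :
    Subgroup.normalizer (M : Set G) ≤ Subgroup.normalizer (pElemClosure p M : Set G) := by
  intro g hg
  rw [Subgroup.mem_normalizer_iff_map_conj_eq] at hg ⊢
  rw [show (MulAut.conj g : G →* G) = (MulAut.conj g).toMonoidHom from rfl] at hg ⊢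
  rw [map_pElemClosure_conj, hg]

theorem pElemClosure_normal_subgroupOf (M : Subgroup G) :
    ((pElemClosure p M).subgroupOf M).Normal :=
  (Subgroup.normal_subgroupOf_iff_le_normalizer (pElemClosure_le M)).mpr
    (Subgroup.le_normalizer.trans (normalizer_le_normalizer_pElemClosure M))

theorem isSubnormal_pElemClosure {M : Subgroup G} (hM : M.IsSubnormal) :
    (pElemClosure p M).IsSubnormal :=
  Subgroup.IsSubnormal.step _ M (pElemClosure_le M) hM (pElemClosure_normal_subgroupOf M)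

/-- A `p`-element of `H ⊔ O` lies in `H`, for `H` subnormal and `O` a normal `p'`-subgroup. -/
theorem mem_of_isSubnormal [Finite G] {K : Subgroup G} (hK : K.IsSubnormal) (O : Subgroup G)
    [O.Normal] (hO : (Nat.card O).Coprime p) {x : G} (hp : IsPElem p x)
    (hx : x ∈ K ⊔ O) : x ∈ K := by
  induction hK with
  | top => exact Subgroup.mem_top x
  | step A B hAB _ hn ih =>
    have hxB : x ∈ B := ih (sup_le_sup_right hAB O hx)
    obtain ⟨a, ha, o, ho, rfl⟩ := Subgroup.mem_sup_of_normal_right.mp hx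
    have hoB : o ∈ B := by simpa using B.mul_mem (B.inv_mem (hAB ha)) hxB
    haveI := hn
    let f := QuotientGroup.mk' (A.subgroupOf B)
    have h1 : f ⟨a * o, hxB⟩ = f ⟨o, hoB⟩ := by
      have ha1 : f ⟨a, hAB ha⟩ = 1 := (QuotientGroup.eq_one_iff _).mpr ha
      rw [show (⟨a * o, hxB⟩ : B) = ⟨a, hAB ha⟩ * ⟨o, hoB⟩ from rfl, map_mul, ha1, one_mul]
    have h2 : IsPElem p (⟨a * o, hxB⟩ : B) := by
      obtain ⟨k, hk⟩ := hp
      exact ⟨k, Subtype.ext (by simpa using hk)⟩
    have h3 : f ⟨o, hoB⟩ = 1 := by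
      refine eq_one_of_isPElem_of_coprime (h1 ▸ h2.map f) (hO.coprime_dvd_left ?_)
      refine (orderOf_map_dvd f _).trans ?_
      rw [Subgroup.orderOf_mk, ← Subgroup.orderOf_mk o ho]
      exact orderOf_dvd_natCard _
    rw [← h1] at h3
    exact (QuotientGroup.eq_one_iff (N := A.subgroupOf B) (⟨a * o, hxB⟩ : B)).mp h3

theorem pElemClosure_le_of_isSubnormal [Finite G] {K M : Subgroup G} (hK : K.IsSubnormal)
    (O : Subgroup G) [O.Normal] (hO : (Nat.card O).Coprime p) (h : M ≤ K ⊔ O) :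
    pElemClosure p M ≤ K :=
  pElemClosure_le_iff.mpr fun _ hx hp => mem_of_isSubnormal hK O hO hp (h hx)

/-- A `p`-element of a homomorphic image is the image of a `p`-element. -/
theorem exists_isPElem_lift [Finite G] [hp : Fact p.Prime] (f : G →* H) {M : Subgroup G} {y : H}
    (hy : y ∈ M.map f) (hyp : IsPElem p y) : ∃ x ∈ M, IsPElem p x ∧ f x = y := by
  obtain ⟨m, hm, rfl⟩ := hy
  obtain ⟨k, hk⟩ := hyp
  obtain ⟨a, b, hb, hab⟩ := Nat.exists_eq_pow_mul_and_not_dvd (orderOf_pos m).ne' p hp.out.ne_one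
  have hcop : b.Coprime (p ^ k) := (hp.out.coprime_iff_not_dvd.mpr hb).symm.pow_right k
  obtain ⟨u, v, huv⟩ : ∃ u v : ℤ, (b : ℤ) * u + (p ^ k : ℕ) * v = 1 := by
    have h := Int.gcd_eq_gcd_ab (b : ℤ) ((p ^ k : ℕ) : ℤ)
    rw [Int.gcd_natCast_natCast, hcop.gcd_eq_one] at h
    exact ⟨_, _, h.symm.trans Nat.cast_one⟩
  refine ⟨m ^ ((b : ℤ) * u), M.zpow_mem hm _, ⟨a, ?_⟩, ?_⟩
  · rw [← zpow_natCast, ← zpow_mul]
    have : ((b : ℤ) * u) * ((p ^ a : ℕ) : ℤ) = (orderOf m : ℤ) * u := by
      rw [hab]; push_cast; ring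
    rw [this, zpow_mul, zpow_natCast, pow_orderOf_eq_one, one_zpow]
  · have h1 : f m ^ ((p ^ k : ℕ) : ℤ) = 1 := by rw [zpow_natCast, hk]
    rw [map_zpow, show (b : ℤ) * u = 1 - (p ^ k : ℕ) * v by omega, zpow_sub, zpow_one, zpow_mul,
      h1, one_zpow, inv_one, mul_one]

theorem map_pElemClosure [Finite G] [Fact p.Prime] (f : G →* H) (M : Subgroup G) :
    (pElemClosure p M).map f = pElemClosure p (M.map f) := by
  refine le_antisymm (map_pElemClosure_le f M) (pElemClosure_le_iff.mpr fun y hy hyp => ?_)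
  obtain ⟨x, hx, hxp, rfl⟩ := exists_isPElem_lift f hy hyp
  exact Subgroup.mem_map_of_mem f (mem_pElemClosure hx hxp)

/-- A quasisimple group of order divisible by `p` is generated by its `p`-elements. -/
theorem pElemClosure_top_of_qs [Finite G] [hp : Fact p.Prime] (h : Cfsg.IsQuasisimple G)
    (hdvd : p ∣ Nat.card G) : pElemClosure p (⊤ : Subgroup G) = ⊤ := by
  by_contra hne
  haveI hn : (pElemClosure p (⊤ : Subgroup G)).Normal :=
    Subgroup.normalizer_eq_top_iff.mp (top_le_iff.mp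
      (Subgroup.le_normalizer.trans (normalizer_le_normalizer_pElemClosure ⊤)))
  have hz := Components.qs_normal_le_center h _ hne
  obtain ⟨P⟩ := Sylow.nonempty (p := p) (G := G)
  have hPz : (P : Subgroup G) ≤ Subgroup.center G := fun x hx =>
    hz (mem_pElemClosure (Subgroup.mem_top x) (isPElem_of_isPGroup P.isPGroup' hx))
  haveI : (P : Subgroup G).Normal :=
    ⟨fun x hx g => by rw [(Subgroup.mem_center_iff.mp (hPz hx) g), mul_inv_cancel_right]; exact hx⟩
  obtain ⟨K, hK⟩ := Subgroup.exists_right_complement'_of_coprime (N := (P : Subgroup G))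
    P.card_coprime_index
  have hKn : K.Normal := by
    refine ⟨fun x hx g => ?_⟩
    obtain ⟨a, ha, b, hb, rfl⟩ :=
      Subgroup.mem_sup_of_normal_left.mp (show g ∈ (P : Subgroup G) ⊔ K by
        rw [hK.sup_eq_top]; trivial)
    have hy : b * x * b⁻¹ ∈ K := K.mul_mem (K.mul_mem hb hx) (K.inv_mem hb)
    have he : a * b * x * (a * b)⁻¹ = a * (b * x * b⁻¹) * a⁻¹ := by
      simp [mul_assoc]
    rw [he, ← Subgroup.mem_center_iff.mp (hPz ha) (b * x * b⁻¹), mul_inv_cancel_right]
    exact hy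
  have hKtop : K = ⊤ := by
    by_contra hKne
    have hKz := Components.qs_normal_le_center h K hKne
    exact Components.qs_center_ne_top h (top_le_iff.mp (hK.sup_eq_top ▸ sup_le hPz hKz))
  have hPbot : (P : Subgroup G) = ⊥ := by
    have := hK.disjoint
    rw [hKtop, disjoint_top] at this
    exact this
  have := P.not_dvd_index
  rw [hPbot, Subgroup.index_bot] at this
  exact this hdvd

theorem pElemClosure_eq_self_of_qs [Finite G] [Fact p.Prime] {L : Subgroup G}
    (h : Cfsg.IsQuasisimple L) (hdvd : p ∣ Nat.card L) : pElemClosure p L = L := by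
  have h1 := congrArg (Subgroup.map L.subtype) (pElemClosure_top_of_qs (p := p) h hdvd)
  rwa [map_pElemClosure, ← MonoidHom.range_eq_map, Subgroup.range_subtype] at h1

end Cfsg.Agent.H40
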